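import Cfsg.Agent.Lib.CharApps.AltSquare
import Cfsg.Agent.Lib.CharApps.Galois
import Cfsg.Agent.Lib.CharApps.Basic
import Cfsg.Agent.Lib.Chars.Quotient

/-!
# An element at which every non-principal character drops by four or vanishes

Elementary consequences, and the reality of the characters of degree three that do not vanish there.
-/

set_option autoImplicit false
set_option linter.unusedSectionVars false
set_option linter.style.haveILetI false

namespace CfsgLib.CharApps.FourValue

open Cfsg Chars Finset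
open scoped ComplexConjugate

universe u

variable {G : Type u} [Group G] [Fintype G] [Fintype (IrrCharacter G)]

/-- Every non-principal irreducible character drops by four, or vanishes, at `u`. -/
def Hyp (u : G) : Prop :=
  u ≠ 1 ∧ ∀ χ : IrrCharacter G, χ ≠ principal G →
    (χ : G → ℂ) 1 - (χ : G → ℂ) u = 4 ∨ (χ : G → ℂ) u = 0

/-- The degree. -/
noncomputable abbrev dg (χ : IrrCharacter G) : ℕ := charDegree (χ : G → ℂ)

open scoped Classical in
/-- The value at `u`. -/
noncomputable def val (u : G) (χ : IrrCharacter G) : ℤ :=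
  if χ = principal G then 1 else if (χ : G → ℂ) u = 0 then 0 else (dg χ : ℤ) - 4

/-- The conjugate character. -/
noncomputable def bar (χ : IrrCharacter G) : IrrCharacter G :=
  CharApps.galoisIrr Complex.conjAe.toRingEquiv χ

theorem bar_apply (χ : IrrCharacter G) (g : G) : (bar χ : G → ℂ) g = conj ((χ : G → ℂ) g) := rfl

theorem bar_principal : bar (principal G) = principal G :=
  Subtype.ext (funext fun g => by rw [bar_apply, principal_apply, map_one])

theorem bar_bar (χ : IrrCharacter G) : bar (bar χ) = χ :=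
  Subtype.ext (funext fun g => by rw [bar_apply, bar_apply, Complex.conj_conj])

theorem dg_eq_iff (χ : IrrCharacter G) (n : ℕ) : dg χ = n ↔ (χ : G → ℂ) 1 = n := by
  rw [CharApps.deg_eq]; exact_mod_cast Iff.rfl

theorem exists_mult {θ : G → ℂ} (hθ : IsCharacter G θ) :
    ∃ n : IrrCharacter G → ℕ, (∀ χ : IrrCharacter G, classInner θ (χ : G → ℂ) = n χ) ∧
      ∀ g, θ g = ∑ χ : IrrCharacter G, (n χ : ℂ) * (χ : G → ℂ) g := by
  choose n hn using fun χ : IrrCharacter G => inner_irr_right_nat hθ χ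
  refine ⟨n, hn, fun g => ?_⟩
  have h := congrFun (classFun_eq_sum (isClassFunction_of_isCharacter hθ)) g
  simpa [Finset.sum_apply, hn] using h

theorem inner_of_mult {θ θ' : G → ℂ} {n n' : IrrCharacter G → ℕ}
    (h : ∀ g, θ g = ∑ χ : IrrCharacter G, (n χ : ℂ) * (χ : G → ℂ) g)
    (h' : ∀ χ : IrrCharacter G, classInner θ' (χ : G → ℂ) = n' χ) :
    classInner θ θ' = ((∑ χ : IrrCharacter G, n χ * n' χ : ℕ) : ℂ) := by
  have hθ : θ = ∑ χ : IrrCharacter G, (n χ : ℂ) • (χ : G → ℂ) := funext fun g => by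
    simp [Finset.sum_apply, h g]
  rw [hθ, inner_sum_left]
  push_cast
  refine Finset.sum_congr rfl fun χ _ => ?_
  rw [Chars.inner_smul_left, ← inner_conj, h', map_natCast]

/-- Moving a factor across the inner product. -/
theorem inner_mul_left (a b c : G → ℂ) :
    classInner (a * b) c = classInner a (fun g => c g * conj (b g)) := by
  simp only [inner_def, Pi.mul_apply, map_mul, Complex.conj_conj]
  exact congrArg _ (Finset.sum_congr rfl fun g _ => by ring)

variable {u : G}

theorem val_spec (h : Hyp u) (χ : IrrCharacter G) : (χ : G → ℂ) u = val u χ := by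
  unfold val
  split_ifs with h1 h0
  · subst h1; rw [principal_apply, Int.cast_one]
  · rw [h0, Int.cast_zero]
  · rcases h.2 χ h1 with h4 | h4
    · rw [CharApps.deg_eq] at h4
      push_cast
      linear_combination -h4
    · exact absurd h4 h0

theorem val_principal : val u (principal G) = 1 := if_pos rfl

theorem val_cases (χ : IrrCharacter G) (hχ : χ ≠ principal G) :
    val u χ = 0 ∨ val u χ = (dg χ : ℤ) - 4 := by
  unfold val
  rw [if_neg hχ]
  split_ifs
  exacts [Or.inl rfl, Or.inr rfl]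

theorem ne_at_one (h : Hyp u) {χ : IrrCharacter G} (hχ : χ ≠ principal G) :
    (χ : G → ℂ) u ≠ (χ : G → ℂ) 1 := fun he => by
  rcases h.2 χ hχ with h4 | h4
  · rw [he, sub_self] at h4; norm_num at h4
  · exact CharApps.deg_ne_zero χ (he ▸ h4)

theorem normal_eq_top (h : Hyp u) {N : Subgroup G} [N.Normal] (hu : u ∈ N) : N = ⊤ := by
  by_contra hne
  obtain ⟨g, hg⟩ : ∃ g, g ∉ N := not_forall.1 fun hall => hne ((Subgroup.eq_top_iff' N).2 hall)
  have hg' : (g : G ⧸ N) ≠ 1 := fun he => hg ((QuotientGroup.eq_one_iff g).1 he)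
  obtain ⟨ψ, hψ⟩ : ∃ ψ : IrrCharacter (G ⧸ N), (ψ : G ⧸ N → ℂ) g ≠ (ψ : G ⧸ N → ℂ) 1 := by
    by_contra hall
    push Not at hall
    exact hg' (Chars.eq_one_of_forall_irr hall)
  let χ : IrrCharacter G := ⟨_, Chars.isIrrCharacter_inflate N ψ.2⟩
  refine ne_at_one h (χ := χ) (fun he => hψ ?_) ?_
  · have e1 := congrFun (congrArg Subtype.val he) g
    have e2 := congrFun (congrArg Subtype.val he) 1
    rw [principal_apply] at e1 e2
    exact e1.trans e2.symm
  · show (ψ : G ⧸ N → ℂ) (u : G ⧸ N) = (ψ : G ⧸ N → ℂ) ((1 : G) : G ⧸ N)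
    rw [(QuotientGroup.eq_one_iff u).2 hu]; rfl

/-- The commutator subgroup is everything. -/
theorem perfect (h : Hyp u) : commutator G = ⊤ := by
  classical
  by_contra hne
  have hu : u ∉ commutator G := fun hu => hne (normal_eq_top h hu)
  obtain ⟨ψ, hψ⟩ : ∃ ψ : IrrCharacter (G ⧸ commutator G),
      (ψ : G ⧸ commutator G → ℂ) (u : G ⧸ commutator G) ≠ (ψ : G ⧸ commutator G → ℂ) 1 := by
    by_contra hall
    push Not at hall
    exact hu ((QuotientGroup.eq_one_iff u).1 (Chars.eq_one_of_forall_irr hall))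
  let χ : IrrCharacter G := ⟨_, Chars.isIrrCharacter_inflate _ ψ.2⟩
  obtain ⟨k, ρ, hρ, hρψ⟩ := id ψ.2
  haveI := hρ
  have hk1 : Module.finrank ℂ (Fin k → ℂ) = 1 := by
    have h1 : (ψ : G ⧸ commutator G → ℂ) 1 = 1 :=
      irr_abelian_degree (fun a b => mul_comm (a : Abelianization G) b) ψ.2
    rw [← hρψ, Representation.char_one] at h1
    exact_mod_cast h1
  have hd : (χ : G → ℂ) 1 = 1 := by
    show (ψ : G ⧸ commutator G → ℂ) 1 = 1
    rw [← hρψ, Representation.char_one, hk1, Nat.cast_one]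
  have hne' : χ ≠ principal G := fun he => hψ (by
    have e1 := congrFun (congrArg Subtype.val he) u
    have e2 := congrFun (congrArg Subtype.val he) 1
    rw [principal_apply] at e1 e2
    exact e1.trans e2.symm)
  have hn : ‖(χ : G → ℂ) u‖ ≤ 1 := by
    simpa [hd] using char_norm_le (isCharacter_of_irr χ.2) u
  rcases h.2 χ hne' with h4 | h4
  · have : (χ : G → ℂ) u = -3 := by linear_combination hd - h4
    rw [this] at hn; norm_num at hn
  · have hu1 : ‖(χ : G → ℂ) u‖ = 1 := by
      show ‖(ψ : G ⧸ commutator G → ℂ) (u : G ⧸ commutator G)‖ = 1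
      obtain ⟨b, μ, -, hμ, -, -, hsum, -⟩ := exists_eigenbasis_rep ρ (u : G ⧸ commutator G)
      rw [← hρψ, hsum, ← (finCongr hk1.symm).sum_comp, Fin.sum_univ_one]
      exact hμ _
    rw [h4, norm_zero] at hu1
    exact zero_ne_one hu1

theorem eq_principal_of_dg_one (h : Hyp u) {χ : IrrCharacter G} (hd : dg χ = 1) : χ = principal G := by
  obtain ⟨k, ρ, hρ, hρχ⟩ := id χ.2
  haveI := hρ
  have hk1 : Module.finrank ℂ (Fin k → ℂ) = 1 := by
    have h1 := (dg_eq_iff χ 1).1 hd
    rw [← hρχ, Representation.char_one] at h1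
    exact_mod_cast h1
  refine Subtype.ext (funext fun g => ?_)
  have hk : (CharsMore.detHom ρ).ker = ⊤ := top_le_iff.mp
    (perfect h ▸ Abelianization.commutator_subset_ker _)
  have h2 := MonoidHom.mem_ker.mp (hk.ge (Subgroup.mem_top g))
  have h3 := CharsMore.coe_detHom ρ g
  rw [h2, Units.val_one] at h3
  obtain ⟨b, μ, -, -, hb, -, hsum, -⟩ := exists_eigenbasis_rep ρ g
  rw [AltSquare.det_eq_prod _ b μ hb, ← (finCongr hk1.symm).prod_comp, Fin.prod_univ_one] at h3
  rw [← hρχ, principal_apply, hsum, ← (finCongr hk1.symm).sum_comp, Fin.sum_univ_one, ← h3]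

theorem val_eq_zero_of_two (h : Hyp u) {χ : IrrCharacter G} (hd : dg χ = 2) : val u χ = 0 := by
  have hne : χ ≠ principal G := fun he => by
    have := (dg_eq_iff χ 2).1 hd
    rw [he, principal_apply] at this; norm_num at this
  rcases val_cases (u := u) χ hne with hv | hv
  · exact hv
  exfalso
  obtain ⟨k, ρ, hρ, hρχ⟩ := id χ.2
  haveI := hρ
  have h1 : ρ.character 1 = 2 := by rw [hρχ]; exact_mod_cast (dg_eq_iff χ 2).1 hd
  have hu : ρ.character u = -2 := by
    rw [hρχ, val_spec h, hv, hd]; norm_num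
  have hk : (Module.finrank ℂ (Fin k → ℂ) : ℂ) = 2 := by rw [← Representation.char_one ρ, h1]
  obtain ⟨ω, hω⟩ := (norm_character_eq_iff ρ u).1 (by
    rw [hu, norm_neg, Complex.norm_two]
    have : ((Module.finrank ℂ (Fin k → ℂ) : ℕ) : ℂ) = ((2 : ℕ) : ℂ) := by rw [hk]; norm_num
    rw [Nat.cast_inj.1 this]; norm_num)
  -- the elements acting as scalars form a normal subgroup containing `u`
  let Z : Subgroup G :=
    { carrier := {g | ∀ x, ρ g * ρ x = ρ x * ρ g}
      one_mem' := fun x => by rw [map_one, one_mul, mul_one]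
      mul_mem' := fun {a b} ha hb x => by rw [map_mul, mul_assoc, hb, ← mul_assoc, ha, mul_assoc]
      inv_mem' := fun {a} ha x => by
        have h := ha x
        calc ρ a⁻¹ * ρ x = ρ a⁻¹ * (ρ x * ρ a) * ρ a⁻¹ := by
              rw [mul_assoc, mul_assoc, ← map_mul ρ a, mul_inv_cancel, map_one, mul_one]
          _ = ρ a⁻¹ * (ρ a * ρ x) * ρ a⁻¹ := by rw [h]
          _ = ρ x * ρ a⁻¹ := by rw [← mul_assoc (ρ a⁻¹), ← map_mul, inv_mul_cancel, map_one, one_mul] }
  haveI : Z.Normal := ⟨fun a ha g x => by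
    have h := ha (g⁻¹ * x * g)
    calc ρ (g * a * g⁻¹) * ρ x = ρ g * (ρ a * ρ (g⁻¹ * x * g)) * ρ g⁻¹ := by
          simp only [← map_mul]; congr 1; group
      _ = ρ g * (ρ (g⁻¹ * x * g) * ρ a) * ρ g⁻¹ := by rw [h]
      _ = ρ x * ρ (g * a * g⁻¹) := by simp only [← map_mul]; congr 1; group⟩
  have hZ : Z = ⊤ := normal_eq_top h (fun x => by
    rw [hω]
    refine LinearMap.ext fun w => ?_
    simp)
  have hcomm : commutator G ≤ ρ.ker := by
    refine Subgroup.commutator_le.2 fun a _ b _ => MonoidHom.mem_ker.2 ?_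
    have ha : a ∈ Z := hZ ▸ Subgroup.mem_top a
    rw [commutatorElement_def, map_mul, map_mul, map_mul, ha b, mul_assoc (ρ b),
      ← map_mul ρ a a⁻¹, mul_inv_cancel, map_one, mul_one, ← map_mul, mul_inv_cancel, map_one]
  have htriv : ∀ g, ρ g = 1 := fun g => MonoidHom.mem_ker.1 (hcomm (perfect h ▸ Subgroup.mem_top g))
  have : ρ.character u = ρ.character 1 := by
    simp [Representation.character, htriv]
  rw [hu, h1] at this
  norm_num at this

theorem val_nonneg_or_three (h : Hyp u) (χ : IrrCharacter G) : 0 ≤ val u χ ∨ (dg χ = 3 ∧ val u χ = -1) := by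
  by_cases hp : χ = principal G
  · rw [hp, val_principal]; exact Or.inl zero_le_one
  rcases val_cases (u := u) χ hp with hv | hv
  · exact Or.inl hv.ge
  have h1 : dg χ ≠ 1 := fun h1 => hp (eq_principal_of_dg_one h h1)
  have h0 : 0 < dg χ := CharApps.deg_pos χ
  have h2 : dg χ = 2 → val u χ = 0 := val_eq_zero_of_two h
  omega

/-- A character with small degree and positive value at `u` and no principal part is irreducible. -/
theorem eq_irr_of_pos (h : Hyp u) {θ : G → ℂ} (hθ : IsCharacter G θ)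
    (hp : classInner θ (principal G : G → ℂ) = 0) {D : ℕ} (hD : D ≤ 6) (h1 : θ 1 = D)
    {V : ℤ} (hu : θ u = V) (hV : 0 < V) :
    ∃ χ : IrrCharacter G, χ ≠ principal G ∧ θ = (χ : G → ℂ) := by
  classical
  obtain ⟨n, hn, hs⟩ := exists_mult hθ
  have hn1 : n (principal G) = 0 := by rw [hn] at hp; exact_mod_cast hp
  have hdeg : ∑ χ : IrrCharacter G, n χ * dg χ = D := by
    apply Nat.cast_injective (R := ℂ)
    push_cast
    rw [← h1, hs]
    exact Finset.sum_congr rfl fun χ _ => by rw [CharApps.deg_eq]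
  have hval : ∑ χ : IrrCharacter G, (n χ : ℤ) * val u χ = V := by
    apply Int.cast_injective (α := ℂ)
    push_cast
    rw [← hu, hs]
    exact Finset.sum_congr rfl fun χ _ => by rw [val_spec h]
  obtain ⟨χ, -, hχ⟩ : ∃ χ ∈ (univ : Finset (IrrCharacter G)), 0 < (n χ : ℤ) * val u χ := by
    by_contra hall
    push Not at hall
    have := Finset.sum_nonpos hall
    omega
  have hn0 : 0 < n χ := Nat.pos_of_ne_zero fun h0 => by rw [h0] at hχ; simp at hχ
  have hpr : χ ≠ principal G := fun he => by rw [he, hn1] at hn0; omega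
  have hd5 : 5 ≤ dg χ := by
    have hv : 0 < val u χ := pos_of_mul_pos_right hχ (by positivity)
    rcases val_cases (u := u) χ hpr with h' | h' <;> omega
  rw [← Finset.add_sum_erase _ _ (mem_univ χ)] at hdeg
  have hrest : ∀ ψ ∈ univ.erase χ, n ψ = 0 := by
    intro ψ hψ
    by_contra hne
    have hle := Finset.single_le_sum (f := fun φ => n φ * dg φ) (fun φ _ => Nat.zero_le _) hψ
    have h5 : 5 ≤ n χ * dg χ := le_trans hd5 (Nat.le_mul_of_pos_left _ hn0)
    have h1' : dg ψ = 1 := by
      have hp' := CharApps.deg_pos ψ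
      have hle' : dg ψ ≤ n ψ * dg ψ := Nat.le_mul_of_pos_left _ (Nat.pos_of_ne_zero hne)
      simp only [dg] at *
      omega
    exact hne (eq_principal_of_dg_one h h1' ▸ hn1)
  rw [Finset.sum_eq_zero fun ψ hψ => by rw [hrest ψ hψ, zero_mul], add_zero] at hdeg
  have hnχ : n χ = 1 := by
    by_contra hne
    have : 2 * 5 ≤ n χ * dg χ := Nat.mul_le_mul (by omega) hd5
    omega
  refine ⟨χ, hpr, funext fun g => ?_⟩
  rw [hs, ← Finset.add_sum_erase _ _ (mem_univ χ),
    Finset.sum_eq_zero fun ψ hψ => by rw [hrest ψ hψ, Nat.cast_zero, zero_mul], hnχ]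
  simp

/-- The symmetric square of a degree three character, in our situation. -/
theorem isCharacter_sym (h : Hyp u) {χ : IrrCharacter G} (hd : dg χ = 3) :
    IsCharacter G (fun g => (χ : G → ℂ) g * (χ : G → ℂ) g - conj ((χ : G → ℂ) g)) := by
  have hf : ∀ g, (χ : G → ℂ) g * (χ : G → ℂ) g - conj ((χ : G → ℂ) g) =
      ((χ : G → ℂ) g * (χ : G → ℂ) g + 1 * (χ : G → ℂ) (g * g)) / 2 := fun g => by
    rw [(AltSquare.three_facts (perfect h) (isCharacter_of_irr χ.2) ((dg_eq_iff χ 3).1 hd) g).1]
    ring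
  rw [funext hf]
  exact AltSquare.isCharacter_half_square (isCharacter_of_irr χ.2) (Or.inl rfl)

theorem inner_irr_ite [DecidableEq (IrrCharacter G)] (χ ψ : IrrCharacter G) :
    classInner (χ : G → ℂ) (ψ : G → ℂ) = if χ = ψ then 1 else 0 := by
  split_ifs with he
  · rw [he, inner_irr_self]
  · exact inner_irr_ne he

set_option maxHeartbeats 800000 in
/-- The characters of degree three that do not vanish at `u` are real. -/
theorem real_of_three (h : Hyp u) {χ : IrrCharacter G} (hd : dg χ = 3) (hv : val u χ = -1) :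
    bar χ = χ := by
  classical
  by_contra hreal
  have hχ1 : (χ : G → ℂ) 1 = 3 := by exact_mod_cast (dg_eq_iff χ 3).1 hd
  have hχu : (χ : G → ℂ) u = -1 := by rw [val_spec h, hv]; norm_num
  have hbpr : bar χ ≠ principal G := fun he => by
    have : (bar χ : G → ℂ) 1 = 1 := by rw [he, principal_apply]
    rw [bar_apply, hχ1] at this
    norm_num [map_ofNat] at this
  -- the symmetric square is irreducible
  obtain ⟨S, hSpr, hS⟩ := eq_irr_of_pos h (isCharacter_sym h hd) (D := 6) (V := 2) (by
      rw [show (fun g => (χ : G → ℂ) g * (χ : G → ℂ) g - conj ((χ : G → ℂ) g)) =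
        ((χ : G → ℂ) * (χ : G → ℂ)) - (bar χ : G → ℂ) from rfl, Chars.inner_sub_left, inner_mul_left,
        show (fun g => (principal G : G → ℂ) g * conj ((χ : G → ℂ) g)) = (bar χ : G → ℂ) from
          funext fun g => by rw [principal_apply, one_mul, bar_apply],
        inner_irr_ne (fun he => hreal he.symm), inner_irr_ne hbpr, sub_zero])
      le_rfl (by simp [hχ1, map_ofNat]; norm_num) (by simp [hχu]; norm_num) two_pos
  have hS1 : dg S = 6 := (dg_eq_iff S 6).2 (by rw [← hS]; simp [hχ1, map_ofNat]; norm_num)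
  have hsq : ∀ g, (χ : G → ℂ) g * (χ : G → ℂ) g = (S : G → ℂ) g + (bar χ : G → ℂ) g := fun g => by
    rw [← hS, bar_apply]; ring
  have hSb : S ≠ bar χ := fun he => by
    have h6 := (dg_eq_iff S 6).1 hS1
    rw [he, bar_apply, hχ1] at h6
    norm_num [map_ofNat] at h6
  -- so `χ χ̄` is one plus an irreducible character `φ`
  let B : G → ℂ := (χ : G → ℂ) * (bar χ : G → ℂ)
  obtain ⟨nB, hnB, hsB⟩ := exists_mult (θ := B)
    (isCharacter_mul (isCharacter_of_irr χ.2) (isCharacter_of_irr (bar χ).2))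
  have hB1 : nB (principal G) = 1 := by
    have := hnB (principal G)
    rw [inner_mul_left, show (fun g => (principal G : G → ℂ) g * conj ((bar χ : G → ℂ) g)) =
      (χ : G → ℂ) from funext fun g => by rw [principal_apply, one_mul, bar_apply, Complex.conj_conj],
      inner_irr_self] at this
    exact_mod_cast this.symm
  have hB2 : ∑ φ : IrrCharacter G, nB φ * nB φ = 2 := by
    apply Nat.cast_injective (R := ℂ)
    rw [← inner_of_mult hsB hnB]
    have : classInner B B = classInner ((χ : G → ℂ) * (χ : G → ℂ)) ((χ : G → ℂ) * (χ : G → ℂ)) := by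
      simp only [inner_def, B, Pi.mul_apply, bar_apply, map_mul, Complex.conj_conj]
      exact congrArg _ (Finset.sum_congr rfl fun g _ => by ring)
    rw [this, show (χ : G → ℂ) * (χ : G → ℂ) = (S : G → ℂ) + (bar χ : G → ℂ) from funext hsq,
      Chars.inner_add_left, Chars.inner_add_right, Chars.inner_add_right, inner_irr_self, inner_irr_self,
      inner_irr_ne hSb, inner_irr_ne (Ne.symm hSb)]
    norm_num
  rw [← Finset.add_sum_erase _ _ (mem_univ (principal G)), hB1] at hB2
  obtain ⟨φ, hφe, hφ⟩ : ∃ φ ∈ (univ : Finset (IrrCharacter G)).erase (principal G), nB φ ≠ 0 := by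
    refine Finset.exists_ne_zero_of_sum_ne_zero ?_
    intro h0
    have : ∀ φ ∈ (univ : Finset (IrrCharacter G)).erase (principal G), nB φ * nB φ = 0 :=
      fun φ hφ => by rw [(Finset.sum_eq_zero_iff.1 h0) φ hφ, zero_mul]
    rw [Finset.sum_eq_zero this] at hB2
    omega
  have hφpr := (mem_erase.1 hφe).1
  rw [← Finset.add_sum_erase _ _ hφe] at hB2
  have hφ1 : nB φ = 1 := by
    by_contra hne
    have : 2 * 2 ≤ nB φ * nB φ := Nat.mul_le_mul (by omega) (by omega)
    omega
  have hrest : ∀ ψ ∈ ((univ : Finset (IrrCharacter G)).erase (principal G)).erase φ, nB ψ = 0 :=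
    fun ψ hψ => mul_self_eq_zero.1 (Finset.sum_eq_zero_iff.1
      (show ∑ ψ ∈ ((univ : Finset (IrrCharacter G)).erase (principal G)).erase φ, nB ψ * nB ψ = 0 by
        rw [hφ1] at hB2; omega) ψ hψ)
  have hBφ : ∀ g, B g = 1 + (φ : G → ℂ) g := fun g => by
    rw [hsB, ← Finset.add_sum_erase _ _ (mem_univ (principal G)), ← Finset.add_sum_erase _ _ hφe,
      Finset.sum_eq_zero fun ψ hψ => by rw [hrest ψ hψ, Nat.cast_zero, zero_mul], hB1, hφ1,
      principal_apply]
    simp
  have hφd : dg φ = 8 := (dg_eq_iff φ 8).2 (by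
    have := hBφ 1
    simp only [B, Pi.mul_apply, bar_apply, hχ1] at this
    norm_num [map_ofNat] at this ⊢
    linear_combination -this)
  -- the constituents of degree three of `χ S`
  let T : G → ℂ := (χ : G → ℂ) * (S : G → ℂ)
  obtain ⟨nT, hnT, hsT⟩ := exists_mult (θ := T)
    (isCharacter_mul (isCharacter_of_irr χ.2) (isCharacter_of_irr S.2))
  have hT : ∀ η : IrrCharacter G, dg η = 3 → ∃ n : IrrCharacter G → ℕ,
      (∀ ψ : IrrCharacter G, classInner ((bar χ : G → ℂ) * (η : G → ℂ)) (ψ : G → ℂ) = n ψ) ∧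
      (∀ g, ((bar χ : G → ℂ) * (η : G → ℂ)) g = ∑ ψ : IrrCharacter G, (n ψ : ℂ) * (ψ : G → ℂ) g) ∧
      n S = nT η ∧ nT η ≤ 1 := by
    intro η hη
    obtain ⟨n, hn, hs⟩ := exists_mult (θ := (bar χ : G → ℂ) * (η : G → ℂ))
      (isCharacter_mul (isCharacter_of_irr (bar χ).2) (isCharacter_of_irr η.2))
    have e : n S = nT η := by
      apply Nat.cast_injective (R := ℂ)
      rw [← hn, ← map_natCast (starRingEnd ℂ) (nT η), ← hnT, inner_conj]
      simp only [inner_def, T, Pi.mul_apply, bar_apply, map_mul]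
      exact congrArg _ (Finset.sum_congr rfl fun g _ => by ring)
    refine ⟨n, hn, hs, e, ?_⟩
    have h9 : ∑ ψ : IrrCharacter G, n ψ * dg ψ = 9 := by
      apply Nat.cast_injective (R := ℂ)
      push_cast
      have := hs 1
      simp only [Pi.mul_apply, bar_apply, hχ1, (dg_eq_iff η 3).1 hη] at this
      norm_num [map_ofNat] at this
      rw [this]
      exact Finset.sum_congr rfl fun ψ _ => by rw [CharApps.deg_eq]
    have hle := Finset.single_le_sum (f := fun ψ => n ψ * dg ψ) (fun ψ _ => Nat.zero_le _) (mem_univ S)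
    rw [h9, hS1] at hle
    omega
  have huniq : ∀ η η' : IrrCharacter G, dg η = 3 → dg η' = 3 → nT η ≠ 0 → nT η' ≠ 0 → η = η' := by
    intro η η' hη hη' h0 h0'
    by_contra hne
    obtain ⟨n, hn, hs, hnS, -⟩ := hT η hη
    obtain ⟨n', hn', hs', hnS', -⟩ := hT η' hη'
    obtain ⟨k, hk, hks⟩ := exists_mult (θ := (η' : G → ℂ) * (bar η : G → ℂ))
      (isCharacter_mul (isCharacter_of_irr η'.2) (isCharacter_of_irr (bar η).2))
    have hk1 : k (principal G) = 0 := by
      have := hk (principal G)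
      rw [inner_mul_left, show (fun g => (principal G : G → ℂ) g * conj ((bar η : G → ℂ) g)) =
        (η : G → ℂ) from funext fun g => by rw [principal_apply, one_mul, bar_apply, Complex.conj_conj],
        inner_irr_ne (Ne.symm hne)] at this
      exact_mod_cast this.symm
    have hpos : 1 ≤ ∑ ψ : IrrCharacter G, n ψ * n' ψ := by
      refine le_trans ?_ (Finset.single_le_sum (f := fun ψ => n ψ * n' ψ)
        (fun ψ _ => Nat.zero_le _) (mem_univ S))
      rw [hnS, hnS']
      exact Nat.one_le_iff_ne_zero.2 (Nat.mul_ne_zero h0 h0')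
    have heq : ((∑ ψ : IrrCharacter G, n ψ * n' ψ : ℕ) : ℂ) = ((k φ : ℕ) : ℂ) := by
      rw [← inner_of_mult hs hn']
      have : classInner ((bar χ : G → ℂ) * (η : G → ℂ)) ((bar χ : G → ℂ) * (η' : G → ℂ)) =
          classInner B ((η' : G → ℂ) * (bar η : G → ℂ)) := by
        simp only [inner_def, B, Pi.mul_apply, bar_apply, map_mul, Complex.conj_conj]
        exact congrArg _ (Finset.sum_congr rfl fun g _ => by ring)
      rw [this, show B = (principal G : G → ℂ) + (φ : G → ℂ) from funext fun g => by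
        rw [hBφ g, Pi.add_apply, principal_apply], Chars.inner_add_left, ← inner_conj, hk, hk1,
        ← inner_conj, hk]
      simp
    have hkφ : 1 ≤ k φ := by
      rw [← Nat.cast_injective heq]; exact hpos
    have h9 : ∑ ψ : IrrCharacter G, k ψ * dg ψ = 9 := by
      apply Nat.cast_injective (R := ℂ)
      push_cast
      have := hks 1
      simp only [Pi.mul_apply, bar_apply, (dg_eq_iff η' 3).1 hη', (dg_eq_iff η 3).1 hη] at this
      norm_num [map_ofNat] at this
      rw [this]
      exact Finset.sum_congr rfl fun ψ _ => by rw [CharApps.deg_eq]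
    rw [← Finset.add_sum_erase _ _ (mem_univ φ), hφd] at h9
    have hr : ∑ ψ ∈ univ.erase φ, k ψ * dg ψ ≠ 0 := by omega
    obtain ⟨ψ, hψ, hψ0⟩ := Finset.exists_ne_zero_of_sum_ne_zero hr
    have hψle := Finset.single_le_sum (f := fun x => k x * dg x) (fun x _ => Nat.zero_le _) hψ
    have hψk : k ψ ≠ 0 := fun h0 => hψ0 (by rw [h0, zero_mul])
    have hψd : dg ψ = 1 := by
      have h1 : dg ψ ≤ k ψ * dg ψ := Nat.le_mul_of_pos_left _ (Nat.pos_of_ne_zero hψk)
      have h2 := CharApps.deg_pos ψ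
      simp only [dg] at *
      omega
    exact hψk (eq_principal_of_dg_one h hψd ▸ hk1)
  -- the value of `χ S` at `u` is `-2`
  have hval : ∑ η : IrrCharacter G, (nT η : ℤ) * val u η = -2 := by
    apply Int.cast_injective (α := ℂ)
    push_cast
    rw [Finset.sum_congr rfl fun η _ => show ((nT η : ℕ) : ℂ) * (val u η : ℂ) =
      (nT η : ℂ) * (η : G → ℂ) u by rw [val_spec h], ← hsT]
    simp only [T, Pi.mul_apply, ← hS, hχu]
    norm_num
  have hge : -1 ≤ ∑ η : IrrCharacter G, (nT η : ℤ) * val u η := by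
    by_cases hex : ∃ η, nT η ≠ 0 ∧ val u η < 0
    · obtain ⟨η, h0, hneg⟩ := hex
      obtain ⟨hη3, hηv⟩ := (val_nonneg_or_three h η).resolve_left (not_le.2 hneg)
      obtain ⟨-, -, -, -, hle⟩ := hT η hη3
      rw [← Finset.add_sum_erase _ _ (mem_univ η), hηv]
      have : 0 ≤ ∑ x ∈ univ.erase η, (nT x : ℤ) * val u x := Finset.sum_nonneg fun x hx => by
        by_cases hx0 : nT x = 0
        · rw [hx0]; simp
        rcases val_nonneg_or_three h x with hv | ⟨hx3, -⟩
        · exact mul_nonneg (Nat.cast_nonneg _) hv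
        · exact absurd (huniq x η hx3 hη3 hx0 h0) (mem_erase.1 hx).1
      omega
    · push Not at hex
      refine le_trans (by norm_num : (-1 : ℤ) ≤ 0) (Finset.sum_nonneg fun x _ => ?_)
      by_cases hx0 : nT x = 0
      · rw [hx0]; simp
      · exact mul_nonneg (Nat.cast_nonneg _) (hex x hx0)
  omega

end CfsgLib.CharApps.FourValue
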