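import Cfsg.Agent.Lib.CharApps.FourValue.Basic

/-!
# The quotient of order sixty

The two characters of degree three that do not vanish at the distinguished element are Galois
conjugate, and their power sums count the group.
-/

set_option autoImplicit false
set_option linter.unusedSectionVars false
set_option linter.style.haveILetI false

namespace CfsgLib.CharApps.FourValue

open Cfsg Chars Finset
open scoped ComplexConjugate

universe u

variable {G : Type u} [Group G] [Fintype G] [Fintype (IrrCharacter G)] {u : G}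

/-- A character of degree three not vanishing at `u`. -/
def Three (u : G) (ψ : IrrCharacter G) : Prop := dg ψ = 3 ∧ val u ψ = -1

theorem sum_dg_val (h : Hyp u) : ∑ χ : IrrCharacter G, (dg χ : ℤ) * val u χ = 0 := by
  classical
  apply Int.cast_injective (α := ℂ)
  push_cast
  have hh := second_orthogonality u (1 : G)
  rw [if_neg fun hc => h.1 (isConj_one_right.1 hc)] at hh
  rw [← hh]
  exact Finset.sum_congr rfl fun χ _ => by rw [val_spec h, CharApps.deg_eq, map_natCast, mul_comm]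

theorem exists_three (h : Hyp u) : ∃ ψ, Three u ψ := by
  by_contra hall
  push Not at hall
  have hnn : ∀ χ ∈ (univ : Finset (IrrCharacter G)), 0 ≤ (dg χ : ℤ) * val u χ := fun χ _ =>
    mul_nonneg (Nat.cast_nonneg _) ((val_nonneg_or_three h χ).resolve_right (hall χ))
  have h0 := (Finset.sum_eq_zero_iff_of_nonneg hnn).1 (sum_dg_val h) (principal G) (mem_univ _)
  rw [val_principal, mul_one] at h0
  exact (CharApps.deg_pos (principal G)).ne' (by exact_mod_cast h0)

variable {ψ : IrrCharacter G}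

theorem Three.one (hψ : Three u ψ) : (ψ : G → ℂ) 1 = 3 := by
  exact_mod_cast (dg_eq_iff ψ 3).1 hψ.1

theorem Three.at_u (h : Hyp u) (hψ : Three u ψ) : (ψ : G → ℂ) u = -1 := by
  rw [val_spec h, hψ.2]; norm_num

theorem three_of_values (h : Hyp u) {χ : IrrCharacter G} (h1 : (χ : G → ℂ) 1 = 3)
    (hu : (χ : G → ℂ) u = -1) : Three u χ := by
  refine ⟨(dg_eq_iff χ 3).2 (by exact_mod_cast h1), ?_⟩
  apply Int.cast_injective (α := ℂ)
  rw [← val_spec h, hu]; norm_num

theorem Three.ne_principal (hψ : Three u ψ) : ψ ≠ principal G := fun he => by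
  have := hψ.one
  rw [he, principal_apply] at this
  norm_num at this

theorem Three.conj_apply (h : Hyp u) (hψ : Three u ψ) (g : G) :
    conj ((ψ : G → ℂ) g) = (ψ : G → ℂ) g :=
  congrFun (congrArg Subtype.val (real_of_three h hψ.1 hψ.2)) g

theorem Three.facts (h : Hyp u) (hψ : Three u ψ) (g : G) :
    (ψ : G → ℂ) (g * g) = (ψ : G → ℂ) g * (ψ : G → ℂ) g - 2 * (ψ : G → ℂ) g ∧
      ((ψ : G → ℂ) g).im = 0 ∧ -1 ≤ ((ψ : G → ℂ) g).re ∧ ((ψ : G → ℂ) g).re ≤ 3 := by
  obtain ⟨h1, h2⟩ := AltSquare.three_facts (perfect h) (isCharacter_of_irr ψ.2) hψ.one g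
  rw [hψ.conj_apply h g] at h1
  have him := Complex.conj_eq_iff_im.1 (hψ.conj_apply h g)
  exact ⟨h1, him, h2 him⟩

theorem Three.galois (h : Hyp u) (hψ : Three u ψ) (σ : ℂ ≃+* ℂ) :
    Three u (CharApps.galoisIrr σ ψ) := by
  refine three_of_values h ?_ ?_
  · rw [CharApps.galoisIrr_apply, hψ.one, map_ofNat]
  · rw [CharApps.galoisIrr_apply, hψ.at_u h, map_neg, map_one]

/-- The square is one plus itself plus a character of degree five. -/
theorem Three.exists_five (h : Hyp u) (hψ : Three u ψ) :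
    ∃ φ : IrrCharacter G, dg φ = 5 ∧ val u φ = 1 ∧
      ∀ g, (ψ : G → ℂ) g * (ψ : G → ℂ) g = 1 + (ψ : G → ℂ) g + (φ : G → ℂ) g := by
  classical
  let θ : G → ℂ := fun g => (ψ : G → ℂ) g * (ψ : G → ℂ) g - (ψ : G → ℂ) g - 1
  have hθ : θ = (ψ : G → ℂ) * (ψ : G → ℂ) - (ψ : G → ℂ) - (principal G : G → ℂ) :=
    funext fun g => by simp [θ, principal_apply]
  have hsym := isCharacter_sym h hψ.1
  have hsym' : (fun g => (ψ : G → ℂ) g * (ψ : G → ℂ) g - conj ((ψ : G → ℂ) g)) =
      (ψ : G → ℂ) * (ψ : G → ℂ) - (ψ : G → ℂ) := funext fun g => by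
    rw [hψ.conj_apply h g]; rfl
  rw [hsym'] at hsym
  have h1 : classInner ((ψ : G → ℂ) * (ψ : G → ℂ) - (ψ : G → ℂ)) (principal G : G → ℂ) = 1 := by
    rw [Chars.inner_sub_left, inner_mul_left,
      show (fun g => (principal G : G → ℂ) g * conj ((ψ : G → ℂ) g)) = (ψ : G → ℂ) from
        funext fun g => by rw [principal_apply, one_mul, hψ.conj_apply h g],
      inner_irr_self, inner_irr_ne hψ.ne_principal, sub_zero]
  have hθc : IsCharacter G θ := by
    refine isCharacter_iff_inner.2 ⟨?_, fun χ => ?_⟩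
    · rw [hθ]
      exact isClassFunction_sub (isClassFunction_of_isCharacter hsym) (isClassFunction_irr _)
    · obtain ⟨m, hm⟩ := inner_irr_right_nat hsym χ
      rw [hθ, Chars.inner_sub_left, hm]
      by_cases hχ : principal G = χ
      · subst hχ
        rw [h1] at hm
        exact ⟨0, by rw [inner_irr_self, ← hm]; norm_num⟩
      · exact ⟨m, by rw [inner_irr_ne hχ, sub_zero]⟩
  obtain ⟨φ, hφ1, hφ⟩ := eq_irr_of_pos h hθc (D := 5) (V := 1)
    (by rw [hθ, Chars.inner_sub_left, h1, inner_irr_self, sub_self]) (by norm_num)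
    (by simp [θ, hψ.one]; norm_num) (by simp [θ, hψ.at_u h]) one_pos
  refine ⟨φ, (dg_eq_iff φ 5).2 (by rw [← hφ]; simp [θ, hψ.one]; norm_num), ?_, fun g => ?_⟩
  · apply Int.cast_injective (α := ℂ)
    rw [← val_spec h, ← hφ]; simp [θ, hψ.at_u h]
  · rw [← hφ]; simp only [θ]; ring

/-- Two characters of degree three: pointwise a dichotomy. -/
theorem Three.pair (h : Hyp u) (hψ : Three u ψ) {η : IrrCharacter G} (hη : Three u η) (hne : η ≠ ψ) :
    (∀ g, (η : G → ℂ) g = (ψ : G → ℂ) g ∨ (η : G → ℂ) g = 1 - (ψ : G → ℂ) g) ∧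
      ∑ g : G, ((ψ : G → ℂ) g * (ψ : G → ℂ) g) * ((η : G → ℂ) g * (η : G → ℂ) g) =
        2 * (Nat.card G : ℂ) := by
  classical
  obtain ⟨φ, hφd, -, hφ⟩ := hψ.exists_five h
  obtain ⟨φ', hφd', -, hφ'⟩ := hη.exists_five h
  have hdne : ∀ a b : IrrCharacter G, dg a ≠ dg b → a ≠ b := fun a b hab he => hab (he ▸ rfl)
  have hsq : classInner ((ψ : G → ℂ) * (ψ : G → ℂ)) ((η : G → ℂ) * (η : G → ℂ)) =
      1 + if φ = φ' then 1 else 0 := by
    rw [show (ψ : G → ℂ) * (ψ : G → ℂ) = (principal G : G → ℂ) + (ψ : G → ℂ) + (φ : G → ℂ) from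
        funext fun g => by simp [Pi.mul_apply, hφ g, principal_apply],
      show (η : G → ℂ) * (η : G → ℂ) = (principal G : G → ℂ) + (η : G → ℂ) + (φ' : G → ℂ) from
        funext fun g => by simp [Pi.mul_apply, hφ' g, principal_apply]]
    have hd1 : dg (principal G) = 1 := (dg_eq_iff _ 1).2 (by simp [principal_apply])
    simp only [Chars.inner_add_left, Chars.inner_add_right, inner_irr_self,
      inner_irr_ne hη.ne_principal.symm, inner_irr_ne hψ.ne_principal, inner_irr_ne (Ne.symm hne),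
      inner_irr_ne (hdne (principal G) φ' (by omega)), inner_irr_ne (hdne φ (principal G) (by omega)),
      inner_irr_ne (hdne ψ φ' (by rw [hψ.1, hφd']; omega)),
      inner_irr_ne (hdne φ η (by rw [hη.1, hφd]; omega)), inner_irr_ite φ φ']
    ring
  have hmove : classInner ((ψ : G → ℂ) * (η : G → ℂ)) ((ψ : G → ℂ) * (η : G → ℂ)) =
      classInner ((ψ : G → ℂ) * (ψ : G → ℂ)) ((η : G → ℂ) * (η : G → ℂ)) := by
    simp only [inner_def, Pi.mul_apply, map_mul, hψ.conj_apply h, hη.conj_apply h]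
    exact congrArg _ (Finset.sum_congr rfl fun g _ => by ring)
  have heq : φ = φ' := by
    by_contra hφne
    rw [hsq, if_neg hφne, add_zero] at hmove
    let χ : IrrCharacter G := ⟨_, isIrr_of_inner_self
      (isCharacter_mul (isCharacter_of_irr ψ.2) (isCharacter_of_irr η.2)) hmove⟩
    have h1 : (χ : G → ℂ) 1 = 9 := by
      show (ψ : G → ℂ) 1 * (η : G → ℂ) 1 = 9
      rw [hψ.one, hη.one]; norm_num
    have hu : (χ : G → ℂ) u = 1 := by
      show (ψ : G → ℂ) u * (η : G → ℂ) u = 1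
      rw [hψ.at_u h, hη.at_u h]; norm_num
    have hp : χ ≠ principal G := fun he => by
      rw [he, principal_apply] at h1; norm_num at h1
    rcases h.2 χ hp with h4 | h4 <;> rw [hu] at h4
    · rw [h1] at h4; norm_num at h4
    · exact one_ne_zero h4
  refine ⟨fun g => ?_, ?_⟩
  · have h0 : ((η : G → ℂ) g - (ψ : G → ℂ) g) * ((η : G → ℂ) g + (ψ : G → ℂ) g - 1) = 0 := by
      linear_combination hφ' g - hφ g + congrArg (fun χ : IrrCharacter G => (χ : G → ℂ) g) heq.symm
    rcases mul_eq_zero.1 h0 with h0 | h0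
    · exact Or.inl (sub_eq_zero.1 h0)
    · exact Or.inr (by linear_combination h0)
  · rw [if_pos heq, inner_def] at hsq
    simp only [Pi.mul_apply, map_mul, hη.conj_apply h] at hsq
    have := congrArg ((Nat.card G : ℂ) * ·) hsq
    simp only [mul_inv_cancel_left₀ (card_ne_zero G)] at this
    rw [this]; ring

/-- The value is one of five integers or a root of `x² = x + 1`. -/
theorem Three.values (h : Hyp u) (hψ : Three u ψ) (g : G) :
    (∃ k : ℤ, (-1 ≤ k ∧ k ≤ 3) ∧ (ψ : G → ℂ) g = k) ∨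
      (ψ : G → ℂ) g * (ψ : G → ℂ) g = (ψ : G → ℂ) g + 1 := by
  classical
  haveI : NeZero (Nat.card G) := ⟨Nat.card_pos.ne'⟩
  set x := (ψ : G → ℂ) g with hx
  have hmem : x ∈ IntermediateField.adjoin ℚ ({CharApps.rootN (Nat.card G)} : Set ℂ) :=
    CharApps.char_mem_cyclo (isCharacter_of_irr ψ.2) g pow_card_eq_one'
  have hint : IsIntegral ℤ x := char_isIntegral (isCharacter_of_irr ψ.2) g
  obtain ⟨-, him, hlo, hhi⟩ := hψ.facts h g
  have hdich : ∀ σ : ℂ ≃+* ℂ, σ x = x ∨ σ x = 1 - x := by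
    intro σ
    by_cases he : CharApps.galoisIrr σ ψ = ψ
    · left
      have := congrFun (congrArg Subtype.val he) g
      rwa [CharApps.galoisIrr_apply] at this
    · have := (hψ.pair h (hψ.galois h σ) he).1 g
      rwa [CharApps.galoisIrr_apply] at this
  by_cases hfix : ∀ σ : ℂ ≃+* ℂ, σ x = x
  · obtain ⟨k, hk⟩ := CharApps.exists_int_of_rat hint
      (CharApps.exists_rat_of_fixed hmem fun _ σ _ _ => hfix σ)
    refine Or.inl ⟨k, ?_, hk.symm⟩
    rw [← hx, ← hk, Complex.intCast_re] at hlo hhi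
    exact ⟨by exact_mod_cast hlo, by exact_mod_cast hhi⟩
  push Not at hfix
  obtain ⟨σ, hσ⟩ := hfix
  have hσ' : σ x = 1 - x := (hdich σ).resolve_left hσ
  have hx2 : -1 ≤ (1 - x).re := by
    have := ((hψ.galois h σ).facts h g).2.2.1
    rwa [CharApps.galoisIrr_apply, ← hx, hσ'] at this
  rw [Complex.sub_re, Complex.one_re] at hx2
  obtain ⟨c, hc⟩ := CharApps.exists_int_of_rat (x := x * x - x) ((hint.mul hint).sub hint)
    (CharApps.exists_rat_of_fixed (sub_mem (mul_mem hmem hmem) hmem) fun _ τ _ _ => by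
      rw [map_sub, map_mul]
      rcases hdich τ with e | e <;> rw [e] <;> ring)
  have hcre : (c : ℝ) = x.re * x.re - x.re := by
    have := congrArg Complex.re hc
    rw [Complex.intCast_re, Complex.sub_re, Complex.mul_re, ← hx] at *
    rw [this, him]; ring
  have hc0 : 0 ≤ c := by
    by_contra hneg
    have : (c : ℝ) ≤ -1 := by exact_mod_cast (show c ≤ -1 by omega)
    nlinarith [sq_nonneg (x.re - 1 / 2)]
  have hc2 : c ≤ 2 := by
    have : (c : ℝ) ≤ 2 := by nlinarith
    exact_mod_cast this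
  interval_cases c
  · have h0 : x * (x - 1) = 0 := by push_cast at hc; linear_combination -hc
    rcases mul_eq_zero.1 h0 with h0 | h0
    · exact Or.inl ⟨0, by norm_num, by rw [h0]; norm_num⟩
    · exact Or.inl ⟨1, by norm_num, by rw [sub_eq_zero.1 h0]; norm_num⟩
  · right; push_cast at hc; linear_combination -hc
  · have h0 : (x + 1) * (x - 2) = 0 := by push_cast at hc; linear_combination -hc
    rcases mul_eq_zero.1 h0 with h0 | h0
    · exact Or.inl ⟨-1, by norm_num, by push_cast; linear_combination h0⟩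
    · exact Or.inl ⟨2, by norm_num, by push_cast; linear_combination h0⟩

theorem intCast_not_golden (k : ℤ) : ((k : ℂ) * k) ≠ (k : ℂ) + 1 := by
  intro he
  have h' : k * k = k + 1 := by exact_mod_cast he
  have h1 : k ≤ 2 := by nlinarith
  have h2 : -1 ≤ k := by nlinarith
  interval_cases k <;> omega

open scoped Classical in
/-- Sums over the group of functions of the value of `ψ`. -/
theorem Three.dist (h : Hyp u) (hψ : Three u ψ) (f : ℂ → ℂ) :
    ∑ g : G, f ((ψ : G → ℂ) g) =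
      ((univ.filter fun g => (ψ : G → ℂ) g = -1).card : ℂ) * f (-1) +
      ((univ.filter fun g => (ψ : G → ℂ) g = 0).card : ℂ) * f 0 +
      ((univ.filter fun g => (ψ : G → ℂ) g = 1).card : ℂ) * f 1 +
      ((univ.filter fun g => (ψ : G → ℂ) g = 2).card : ℂ) * f 2 +
      ((univ.filter fun g => (ψ : G → ℂ) g = 3).card : ℂ) * f 3 +
      ∑ g ∈ univ.filter (fun g => (ψ : G → ℂ) g * (ψ : G → ℂ) g = (ψ : G → ℂ) g + 1),
        f ((ψ : G → ℂ) g) := by
  have hk : ∀ k : ℂ, ((univ.filter fun g => (ψ : G → ℂ) g = k).card : ℂ) * f k =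
      ∑ g : G, if (ψ : G → ℂ) g = k then f ((ψ : G → ℂ) g) else 0 := fun k => by
    rw [← Finset.sum_filter, Finset.sum_congr rfl fun g hg => by rw [(mem_filter.1 hg).2],
      Finset.sum_const, nsmul_eq_mul]
  rw [hk, hk, hk, hk, hk, Finset.sum_filter, ← Finset.sum_add_distrib, ← Finset.sum_add_distrib,
    ← Finset.sum_add_distrib, ← Finset.sum_add_distrib, ← Finset.sum_add_distrib]
  refine Finset.sum_congr rfl fun g _ => ?_
  rcases hψ.values h g with ⟨k, ⟨h1, h2⟩, hk⟩ | hg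
  · rw [hk, if_neg (intCast_not_golden k)]
    interval_cases k <;> norm_num
  · have hne : ∀ k : ℤ, (ψ : G → ℂ) g ≠ k := fun k he => intCast_not_golden k (he ▸ hg)
    have e1 := hne (-1); have e2 := hne 0; have e3 := hne 1; have e4 := hne 2; have e5 := hne 3
    push_cast at e1 e2 e3 e4 e5
    rw [if_neg e1, if_neg e2, if_neg e3, if_neg e4, if_neg e5, if_pos hg]
    ring

theorem Three.power_sums (h : Hyp u) (hψ : Three u ψ) :
    ∑ g : G, (ψ : G → ℂ) g = 0 ∧ ∑ g : G, (ψ : G → ℂ) g ^ 2 = (Nat.card G : ℂ) ∧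
      ∑ g : G, (ψ : G → ℂ) g ^ 3 = (Nat.card G : ℂ) ∧
      ∑ g : G, (ψ : G → ℂ) g ^ 4 = 3 * (Nat.card G : ℂ) := by
  classical
  obtain ⟨φ, hφd, -, hφ⟩ := hψ.exists_five h
  have hcr : ∀ a b : G → ℂ, ∑ g : G, a g * conj (b g) = (Nat.card G : ℂ) * classInner a b :=
    fun a b => by rw [inner_def, mul_inv_cancel_left₀ (card_ne_zero G)]
  have hdne : ∀ a b : IrrCharacter G, dg a ≠ dg b → a ≠ b := fun a b hab he => hab (he ▸ rfl)
  have hd1 : dg (principal G) = 1 := (dg_eq_iff _ 1).2 (by simp [principal_apply])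
  have hsq : (ψ : G → ℂ) * (ψ : G → ℂ) = (principal G : G → ℂ) + (ψ : G → ℂ) + (φ : G → ℂ) :=
    funext fun g => by simp [Pi.mul_apply, hφ g, principal_apply]
  have e1 := hcr (ψ : G → ℂ) (principal G : G → ℂ)
  have e2 := hcr (ψ : G → ℂ) (ψ : G → ℂ)
  have e3 := hcr ((ψ : G → ℂ) * (ψ : G → ℂ)) (ψ : G → ℂ)
  have e4 := hcr ((ψ : G → ℂ) * (ψ : G → ℂ)) ((ψ : G → ℂ) * (ψ : G → ℂ))
  rw [inner_irr_ne hψ.ne_principal, mul_zero] at e1
  rw [inner_irr_self, mul_one] at e2
  simp only [hsq, Chars.inner_add_left, Chars.inner_add_right, inner_irr_self,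
    inner_irr_ne hψ.ne_principal.symm, inner_irr_ne hψ.ne_principal,
    inner_irr_ne (hdne φ ψ (by rw [hψ.1, hφd]; omega)), inner_irr_ne (hdne ψ φ (by rw [hψ.1, hφd]; omega)),
    inner_irr_ne (hdne φ (principal G) (by omega)), inner_irr_ne (hdne (principal G) φ (by omega))]
    at e3 e4
  simp only [Pi.add_apply, principal_apply, ← hφ, map_mul, hψ.conj_apply h, map_one, mul_one]
    at e1 e2 e3 e4
  refine ⟨e1, ?_, ?_, ?_⟩
  · rw [← e2]; exact Finset.sum_congr rfl fun g _ => by ring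
  · refine Eq.trans (Finset.sum_congr rfl fun g _ => ?_) (e3.trans (by ring))
    ring
  · refine Eq.trans (Finset.sum_congr rfl fun g _ => ?_) (e4.trans (by ring))
    ring

open scoped Classical in
/-- The value map of the Galois conjugate. -/
noncomputable def flip (y : ℂ) : ℂ := if y * y = y + 1 then 1 - y else y

theorem flip_of_int (k : ℤ) : flip (k : ℂ) = k := if_neg (intCast_not_golden k)

theorem flip_neg_one : flip (-1) = -1 := by simpa using flip_of_int (-1)

theorem flip_of_golden {y : ℂ} (h : y * y = y + 1) : flip y = 1 - y := if_pos h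

/-- The Galois conjugate of `ψ` exists. -/
theorem Three.exists_flip (h : Hyp u) (hψ : Three u ψ) :
    ∃ η : IrrCharacter G, Three u η ∧ η ≠ ψ ∧ ∀ g, (η : G → ℂ) g = flip ((ψ : G → ℂ) g) := by
  classical
  haveI : NeZero (Nat.card G) := ⟨Nat.card_pos.ne'⟩
  obtain ⟨x, ⟨g₀, hg₀⟩, hx⟩ : ∃ x, (∃ g, (ψ : G → ℂ) g = x) ∧ x * x = x + 1 := by
    by_contra hall
    push Not at hall
    have he : univ.filter (fun g => (ψ : G → ℂ) g * (ψ : G → ℂ) g = (ψ : G → ℂ) g + 1) = ∅ :=
      Finset.filter_false_of_mem fun g _ hg => hall _ ⟨g, rfl⟩ hg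
    obtain ⟨p1, p2, p3, p4⟩ := hψ.power_sums h
    rw [hψ.dist h (fun y => y)] at p1
    rw [hψ.dist h (fun y => y ^ 2)] at p2
    rw [hψ.dist h (fun y => y ^ 3)] at p3
    rw [hψ.dist h (fun y => y ^ 4)] at p4
    rw [he, Finset.sum_empty] at p1 p2 p3 p4
    set K := ((univ.filter fun g => (ψ : G → ℂ) g = 3).card : ℂ)
    have hK : K = 0 := by linear_combination ((p4 - p3) - 2 * (p2 - p1) - (p3 - p2)) / 24
    exact Finset.card_ne_zero.2 ⟨1, mem_filter.2 ⟨mem_univ _, hψ.one⟩⟩ (Nat.cast_eq_zero.1 hK)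
  obtain ⟨σ, hσ⟩ : ∃ σ : ℂ ≃+* ℂ, σ x ≠ x := by
    by_contra hall
    push Not at hall
    obtain ⟨k, hk⟩ := CharApps.exists_int_of_rat
      (hg₀ ▸ char_isIntegral (isCharacter_of_irr ψ.2) g₀)
      (CharApps.exists_rat_of_fixed (hg₀ ▸ CharApps.char_mem_cyclo (N := Nat.card G)
        (isCharacter_of_irr ψ.2) g₀ pow_card_eq_one') fun _ σ _ _ => hall σ)
    exact intCast_not_golden k (hk ▸ hx)
  have hroot : ∀ y : ℂ, y * y = y + 1 → y = x ∨ y = 1 - x := fun y hy => by
    have h0 : (y - x) * (y - (1 - x)) = 0 := by linear_combination hy - hx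
    rcases mul_eq_zero.1 h0 with h0 | h0
    exacts [Or.inl (sub_eq_zero.1 h0), Or.inr (sub_eq_zero.1 h0)]
  have hσx : σ x = 1 - x := (hroot _ (by rw [← map_mul, hx, map_add, map_one])).resolve_left hσ
  refine ⟨CharApps.galoisIrr σ ψ, hψ.galois h σ, fun he => hσ ?_, fun g => ?_⟩
  · have := congrFun (congrArg Subtype.val he) g₀
    rwa [CharApps.galoisIrr_apply, hg₀] at this
  · rw [CharApps.galoisIrr_apply]
    rcases hψ.values h g with ⟨k, -, hk⟩ | hg
    · rw [hk, flip_of_int, map_intCast]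
    · rw [flip_of_golden hg]
      rcases hroot _ hg with e | e <;> rw [e]
      · exact hσx
      · rw [map_sub, map_one, hσx]

open scoped Classical in
theorem Three.counts (h : Hyp u) (hψ : Three u ψ) :
    (univ.filter fun g => (ψ : G → ℂ) g = 1).card = 0 ∧
    (univ.filter fun g => (ψ : G → ℂ) g = 2).card = 0 ∧
    Nat.card G = 60 * (univ.filter fun g => (ψ : G → ℂ) g = 3).card ∧
    ∑ g ∈ univ.filter (fun g => (ψ : G → ℂ) g * (ψ : G → ℂ) g = (ψ : G → ℂ) g + 1),
      ((ψ : G → ℂ) g + 2) = (Nat.card G : ℂ) := by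
  obtain ⟨η, hη, hne, hval⟩ := hψ.exists_flip h
  obtain ⟨p1, p2, p3, p4⟩ := hψ.power_sums h
  obtain ⟨q1, -, -, -⟩ := hη.power_sums h
  obtain ⟨-, p5⟩ := hψ.pair h hη hne
  simp only [hval] at q1 p5
  rw [hψ.dist h (fun y => y)] at p1
  rw [hψ.dist h (fun y => y ^ 2)] at p2
  rw [hψ.dist h (fun y => y ^ 3)] at p3
  rw [hψ.dist h (fun y => y ^ 4)] at p4
  rw [hψ.dist h flip] at q1
  rw [hψ.dist h (fun y => (y * y) * (flip y * flip y))] at p5
  set S := univ.filter (fun g => (ψ : G → ℂ) g * (ψ : G → ℂ) g = (ψ : G → ℂ) g + 1) with hS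
  have hmem : ∀ g ∈ S, (ψ : G → ℂ) g * (ψ : G → ℂ) g = (ψ : G → ℂ) g + 1 := fun g hg => (mem_filter.1 hg).2
  set P := ∑ g ∈ S, (ψ : G → ℂ) g with hP
  set m : ℂ := (S.card : ℂ) with hm
  have r2 : ∑ g ∈ S, (ψ : G → ℂ) g ^ 2 = P + m := by
    rw [Finset.sum_congr rfl fun g hg => (sq _).trans (hmem g hg), Finset.sum_add_distrib,
      Finset.sum_const, nsmul_eq_mul, mul_one]
  have r3 : ∑ g ∈ S, (ψ : G → ℂ) g ^ 3 = 2 * P + m := by
    rw [Finset.sum_congr rfl (fun g hg => by linear_combination ((ψ : G → ℂ) g + 1) * hmem g hg :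
      ∀ g ∈ S, (ψ : G → ℂ) g ^ 3 = 2 * (ψ : G → ℂ) g + 1), Finset.sum_add_distrib, ← Finset.mul_sum,
      Finset.sum_const, nsmul_eq_mul, mul_one]
  have r4 : ∑ g ∈ S, (ψ : G → ℂ) g ^ 4 = 3 * P + 2 * m := by
    rw [Finset.sum_congr rfl (fun g hg => by
        linear_combination ((ψ : G → ℂ) g * (ψ : G → ℂ) g + (ψ : G → ℂ) g + 2) * hmem g hg :
      ∀ g ∈ S, (ψ : G → ℂ) g ^ 4 = 3 * (ψ : G → ℂ) g + 2), Finset.sum_add_distrib, ← Finset.mul_sum,
      Finset.sum_const, nsmul_eq_mul]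
    ring
  have r5 : ∑ g ∈ S, flip ((ψ : G → ℂ) g) = m - P := by
    rw [Finset.sum_congr rfl fun g hg => flip_of_golden (hmem g hg), Finset.sum_sub_distrib,
      Finset.sum_const, nsmul_eq_mul, mul_one]
  have r6 : ∑ g ∈ S, ((ψ : G → ℂ) g * (ψ : G → ℂ) g) *
      (flip ((ψ : G → ℂ) g) * flip ((ψ : G → ℂ) g)) = m := by
    rw [Finset.sum_congr rfl (fun g hg => by
        rw [flip_of_golden (hmem g hg)]
        linear_combination ((ψ : G → ℂ) g * (ψ : G → ℂ) g - (ψ : G → ℂ) g + 1) * hmem g hg :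
      ∀ g ∈ S, ((ψ : G → ℂ) g * (ψ : G → ℂ) g) * (flip ((ψ : G → ℂ) g) * flip ((ψ : G → ℂ) g)) = 1),
      Finset.sum_const, nsmul_eq_mul, mul_one]
  rw [r2] at p2; rw [r3] at p3; rw [r4] at p4; rw [r5] at q1; rw [r6] at p5
  have f0 : flip 0 = 0 := by simpa using flip_of_int 0
  have f1 : flip 1 = 1 := by simpa using flip_of_int 1
  have f2 : flip 2 = 2 := by simpa using flip_of_int 2
  have f3 : flip 3 = 3 := by simpa using flip_of_int 3
  simp only [flip_neg_one, f0, f1, f2, f3] at q1 p5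
  set A := ((univ.filter fun g => (ψ : G → ℂ) g = -1).card : ℂ)
  set B := ((univ.filter fun g => (ψ : G → ℂ) g = 0).card : ℂ)
  set C := ((univ.filter fun g => (ψ : G → ℂ) g = 1).card : ℂ)
  set D := ((univ.filter fun g => (ψ : G → ℂ) g = 2).card : ℂ)
  set K := ((univ.filter fun g => (ψ : G → ℂ) g = 3).card : ℂ)
  have eP : 2 * P = m := by linear_combination p1 - q1
  have em : m = 24 * K := by
    linear_combination (2 : ℂ) * (p2 - p1) + (p3 - p2) - (p4 - p3)
  have eG : (Nat.card G : ℂ) = 60 * K := by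
    linear_combination -(p4 - p5) + (3 / 2 : ℂ) * eP + (5 / 2 : ℂ) * em
  have eD : D = 0 := by
    linear_combination (p3 - p1) / 6 + eG / 6 - eP / 12 - em / 4
  have eA : A = 15 * K := by
    linear_combination (p2 - p1) / 2 - eD - em / 2 + eG / 2
  have eC : C = 0 := by
    linear_combination p1 + eA - 2 * eD - eP / 2 - em / 2
  refine ⟨Nat.cast_eq_zero.1 eC, Nat.cast_eq_zero.1 eD, Nat.cast_injective (R := ℂ) (by rw [eG]; push_cast; rfl), ?_⟩
  rw [Finset.sum_add_distrib, Finset.sum_const, nsmul_eq_mul, ← hP, ← hm, eG]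
  linear_combination eP / 2 + (5 / 2 : ℂ) * em

theorem Three.mem_values (h : Hyp u) (hψ : Three u ψ) (g : G) :
    (ψ : G → ℂ) g = -1 ∨ (ψ : G → ℂ) g = 0 ∨ (ψ : G → ℂ) g = 3 ∨
      (ψ : G → ℂ) g * (ψ : G → ℂ) g = (ψ : G → ℂ) g + 1 := by
  classical
  obtain ⟨hC, hD, -, -⟩ := hψ.counts h
  rcases hψ.values h g with ⟨k, ⟨h1, h2⟩, hk⟩ | hg
  · have n1 : k ≠ 1 := fun e => by
      exact Finset.card_ne_zero.2 ⟨g, mem_filter.2 ⟨mem_univ _, by rw [hk, e]; norm_num⟩⟩ hC
    have n2 : k ≠ 2 := fun e => by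
      exact Finset.card_ne_zero.2 ⟨g, mem_filter.2 ⟨mem_univ _, by rw [hk, e]; norm_num⟩⟩ hD
    interval_cases k
    · left; rw [hk]; norm_num
    · right; left; rw [hk]; norm_num
    · exact absurd rfl n1
    · exact absurd rfl n2
    · right; right; left; rw [hk]; norm_num
  · exact Or.inr (Or.inr (Or.inr hg))

/-- There is only one other character of degree three. -/
theorem Three.eq_flip (h : Hyp u) (hψ : Three u ψ) {η : IrrCharacter G} (hη : Three u η)
    (hne : η ≠ ψ) : ∀ g, (η : G → ℂ) g = flip ((ψ : G → ℂ) g) := by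
  classical
  obtain ⟨hd, -⟩ := hψ.pair h hη hne
  obtain ⟨-, -, -, hsum⟩ := hψ.counts h
  set S := univ.filter (fun g => (ψ : G → ℂ) g * (ψ : G → ℂ) g = (ψ : G → ℂ) g + 1) with hS
  have hout : ∀ g, g ∉ S → (η : G → ℂ) g = (ψ : G → ℂ) g := by
    intro g hg
    rcases hd g with e | e
    · exact e
    exfalso
    have hbad := hη.mem_values h g
    rcases hψ.mem_values h g with e' | e' | e' | e'
    · rw [e, e'] at hbad; norm_num at hbad
    · rw [e, e'] at hbad; norm_num at hbad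
    · rw [e, e'] at hbad; norm_num at hbad
    · exact hg (mem_filter.2 ⟨mem_univ _, e'⟩)
  have horth : ∑ g : G, (ψ : G → ℂ) g * ((ψ : G → ℂ) g - (η : G → ℂ) g) = (Nat.card G : ℂ) := by
    have e1 : classInner (ψ : G → ℂ) (ψ : G → ℂ) = 1 := inner_irr_self ψ
    have e2 : classInner (ψ : G → ℂ) (η : G → ℂ) = 0 := inner_irr_ne hne.symm
    rw [inner_def, inv_mul_eq_iff_eq_mul₀ (card_ne_zero G)] at e1 e2
    simp only [hψ.conj_apply h, hη.conj_apply h, mul_one, mul_zero] at e1 e2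
    rw [Finset.sum_congr rfl fun g _ => mul_sub _ _ _, Finset.sum_sub_distrib, e1, e2, sub_zero]
  rw [← Finset.sum_sdiff (Finset.subset_univ S),
    Finset.sum_eq_zero fun g hg => by rw [hout g (mem_sdiff.1 hg).2, sub_self, mul_zero], zero_add] at horth
  have hre : ∑ g ∈ S, ((ψ : G → ℂ) g * ((ψ : G → ℂ) g - (η : G → ℂ) g)).re =
      ∑ g ∈ S, ((ψ : G → ℂ) g + 2).re := by
    rw [← Complex.re_sum, ← Complex.re_sum, horth, hsum]
  have hterm : ∀ g ∈ S, (η : G → ℂ) g = 1 - (ψ : G → ℂ) g ∨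
      ((ψ : G → ℂ) g * ((ψ : G → ℂ) g - (η : G → ℂ) g)).re = 0 := fun g _ => by
    rcases hd g with e | e
    · right; rw [e, sub_self, mul_zero, Complex.zero_re]
    · exact Or.inl e
  have hgolden : ∀ g ∈ S, (η : G → ℂ) g = 1 - (ψ : G → ℂ) g →
      (ψ : G → ℂ) g * ((ψ : G → ℂ) g - (η : G → ℂ) g) = (ψ : G → ℂ) g + 2 := fun g hg e => by
    rw [e]; linear_combination 2 * (mem_filter.1 hg).2
  have hle : ∀ g ∈ S, ((ψ : G → ℂ) g * ((ψ : G → ℂ) g - (η : G → ℂ) g)).re ≤ ((ψ : G → ℂ) g + 2).re := by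
    intro g hg
    rcases hterm g hg with e | e
    · rw [hgolden g hg e]
    · rw [e, Complex.add_re]
      have h2 : (2 : ℂ).re = 2 := by norm_num
      have := (hψ.facts h g).2.2.1
      rw [h2]; linarith
  have hall := (Finset.sum_eq_sum_iff_of_le hle).1 hre
  intro g
  by_cases hg : g ∈ S
  · rw [flip_of_golden (mem_filter.1 hg).2]
    rcases hterm g hg with e | e
    · exact e
    · exfalso
      have h2 := hall g hg
      have h3 := (hψ.facts h g).2.2.1
      rw [e, Complex.add_re, show (2 : ℂ).re = 2 by norm_num] at h2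
      linarith
  · rw [hout g hg]
    rcases hψ.values h g with ⟨k, -, hk⟩ | hg'
    · rw [hk, flip_of_int]
    · exact absurd (show g ∈ S from mem_filter.2 ⟨mem_univ _, hg'⟩) hg

/-- The data read off from the characters. -/
theorem exists_setup (h : Hyp u) :
    ∃ ψ : IrrCharacter G, (ψ : G → ℂ) 1 = 3 ∧ (ψ : G → ℂ) u = -1 ∧
      Nat.card G = 60 * Nat.card (CharApps.charKer ψ) ∧
      (∀ g, (ψ : G → ℂ) (g * g) = 3 → (ψ : G → ℂ) g = -1 ∨ (ψ : G → ℂ) g = 3) ∧
      (∀ g, (ψ : G → ℂ) (g * g) ≠ -1) ∧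
      (∀ g, (ψ : G → ℂ) g = -1 → IsConj u g) ∧
      Nat.card (Subgroup.centralizer ({u} : Set G)) = 4 := by
  classical
  obtain ⟨ψ, hψ⟩ := exists_three h
  obtain ⟨η, hη, hne, hval⟩ := hψ.exists_flip h
  obtain ⟨φ, hφd, hφv, hφ⟩ := hψ.exists_five h
  have hmv := hψ.mem_values h
  have hone : ∀ χ, Three u χ → χ = ψ ∨ χ = η := fun χ hχ => by
    by_cases e : χ = ψ
    · exact Or.inl e
    · exact Or.inr (Subtype.ext (funext fun g => (hψ.eq_flip h hχ e g).trans (hval g).symm))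
  have hd1 : dg (principal G) = 1 := (dg_eq_iff _ 1).2 (by simp [principal_apply])
  let S : Finset (IrrCharacter G) := {principal G, ψ, η, φ}
  have hdne : ∀ a b : IrrCharacter G, dg a ≠ dg b → a ≠ b := fun a b hab he => hab (he ▸ rfl)
  have m1 : principal G ∉ ({ψ, η, φ} : Finset (IrrCharacter G)) := by
    simp [hψ.ne_principal.symm, hη.ne_principal.symm, hdne (principal G) φ (by omega)]
  have m2 : ψ ∉ ({η, φ} : Finset (IrrCharacter G)) := by
    simp [hne.symm, hdne ψ φ (by rw [hψ.1, hφd]; omega)]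
  have m3 : η ∉ ({φ} : Finset (IrrCharacter G)) := by
    simp [hdne η φ (by rw [hη.1, hφd]; omega)]
  have hnn : ∀ χ ∈ univ \ S, 0 ≤ (dg χ : ℤ) * val u χ := fun χ hχ => by
    refine mul_nonneg (Nat.cast_nonneg _) ((val_nonneg_or_three h χ).resolve_right fun h3 => ?_)
    rcases hone χ h3 with e | e <;> exact (mem_sdiff.1 hχ).2 (by simp [S, e])
  have hsum := sum_dg_val h
  rw [← Finset.sum_sdiff (Finset.subset_univ S), Finset.sum_insert m1, Finset.sum_insert m2,
    Finset.sum_insert m3, Finset.sum_singleton, hψ.1, hψ.2, hη.1, hη.2, hφd, hφv, val_principal, hd1] at hsum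
  have hz : ∀ χ, χ ∉ S → (χ : G → ℂ) u = 0 := fun χ hχ => by
    have h0 := (Finset.sum_eq_zero_iff_of_nonneg hnn).1 (by push_cast at hsum ⊢; omega) χ
      (mem_sdiff.2 ⟨mem_univ _, hχ⟩)
    rcases mul_eq_zero.1 h0 with e | e
    · exact absurd (by exact_mod_cast e : dg χ = 0) (CharApps.deg_pos χ).ne'
    · rw [val_spec h, e, Int.cast_zero]
  have horth : ∀ g, (ψ : G → ℂ) g = -1 →
      ∑ χ : IrrCharacter G, (χ : G → ℂ) u * conj ((χ : G → ℂ) g) = 4 := by
    intro g hg
    have hφg : (φ : G → ℂ) g = 1 := by linear_combination -hφ g + ((ψ : G → ℂ) g - 2) * hg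
    rw [← Finset.sum_sdiff (Finset.subset_univ S),
      Finset.sum_eq_zero fun χ hχ => by rw [hz χ (mem_sdiff.1 hχ).2, zero_mul],
      Finset.sum_insert m1, Finset.sum_insert m2, Finset.sum_insert m3, Finset.sum_singleton,
      hψ.at_u h, hη.at_u h, val_spec h φ, hφv, hφg, hval g, hg, flip_neg_one, principal_apply, principal_apply]
    norm_num
  have hC : Nat.card (Subgroup.centralizer ({u} : Set G)) = 4 := by
    have h4 := horth u (hψ.at_u h)
    rw [second_orthogonality, if_pos (IsConj.refl u)] at h4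
    exact_mod_cast h4
  refine ⟨ψ, hψ.one, hψ.at_u h, ?_, fun g hg => ?_, fun g hg => ?_, fun g hg => ?_, hC⟩
  · obtain ⟨-, -, hG, -⟩ := hψ.counts h
    rw [hG]
    congr 1
    rw [← Fintype.card_subtype, ← Nat.card_eq_fintype_card]
    exact Nat.card_congr (Equiv.subtypeEquivRight fun g => by rw [CharApps.mem_charKer, hψ.one])
  · rw [(hψ.facts h g).1] at hg
    rcases hmv g with e | e | e | e
    · exact Or.inl e
    · rw [e] at hg; norm_num at hg
    · exact Or.inr e
    · exfalso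
      have e2 : (ψ : G → ℂ) g = ((-2 : ℤ) : ℂ) := by push_cast; linear_combination e - hg
      exact intCast_not_golden (-2) (e2 ▸ e)
  · rw [(hψ.facts h g).1] at hg
    rcases hmv g with e | e | e | e
    · rw [e] at hg; norm_num at hg
    · rw [e] at hg; norm_num at hg
    · rw [e] at hg; norm_num at hg
    · have e2 : (ψ : G → ℂ) g = ((2 : ℤ) : ℂ) := by push_cast; linear_combination e - hg
      exact intCast_not_golden 2 (e2 ▸ e)
  · have h4 := horth g hg
    rw [second_orthogonality] at h4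
    split_ifs at h4 with hc
    · exact hc.symm
    · norm_num at h4

end CfsgLib.CharApps.FourValue
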