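import Cfsg.Agent.Lib.CharApps.FourValue.Count
import Cfsg.Agent.Lib.Perm.Zass.SLFive
import Cfsg.Agent.Lib.Recog.OrderSixty
import Cfsg.Agent.Lib.Base.Cores

/-!
# The structure of a group with a four-dropping element
-/

set_option autoImplicit false
set_option linter.unusedSectionVars false
set_option linter.style.haveILetI false

namespace CfsgLib.CharApps.FourValue

open Cfsg

universe u

variable {G : Type u} [Group G] [Finite G]

theorem perfect_quotient (hperf : commutator G = ⊤) (M : Subgroup G) [M.Normal] :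
    commutator (G ⧸ M) = ⊤ := by
  rw [eq_top_iff, ← MonoidHom.range_eq_top.2 (QuotientGroup.mk'_surjective M),
    MonoidHom.range_eq_map, ← hperf, commutator_def, Subgroup.map_commutator, commutator_def]
  exact Subgroup.commutator_mono le_top le_top

/-- A perfect group of order sixty is simple. -/
theorem isSimpleGroup_of_perfect_sixty (h : Nat.card G = 60) (hperf : commutator G = ⊤) :
    IsSimpleGroup G := by
  haveI : Nontrivial G := Finite.one_lt_card_iff_nontrivial.1 (by omega)
  refine ⟨fun M hM => ?_⟩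
  haveI := hM
  by_contra hne
  push Not at hne
  have hc := M.card_mul_index
  rw [h] at hc
  have h1 : 1 < Nat.card M := by
    haveI := (Subgroup.nontrivial_iff_ne_bot M).2 hne.1
    exact Finite.one_lt_card
  have hlt : Nat.card (G ⧸ M) < 60 := by
    rw [← Subgroup.index_eq_card]
    have hp : 0 < M.index := Nat.pos_of_ne_zero Subgroup.index_ne_zero_of_finite
    nlinarith
  have hs := Recog.isSolvable_of_card_lt_sixty hlt
  haveI : Nontrivial (G ⧸ M) := Finite.one_lt_card_iff_nontrivial.1 (by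
    rw [← Subgroup.index_eq_card]
    exact Subgroup.one_lt_index_of_ne_top hne.2)
  exact (hs.commutator_lt_top_of_nontrivial).ne (perfect_quotient hperf M)

/-- What the characters give. -/
structure Setup (u : G) where
  /-- the kernel of the characters of degree three -/
  N : Subgroup G
  normal : N.Normal
  card : Nat.card G = 60 * Nat.card N
  notMem : u ∉ N
  sqMem : u * u ∈ N
  conj : ∀ g, g ∉ N → g * g ∈ N → IsConj u g
  four : ∀ g, g ∉ N → g * g * (g * g) ∈ N → g * g ∈ N
  cent : Nat.card (Subgroup.centralizer ({u} : Set G)) = 4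
  perfect : commutator G = ⊤
  closure : ∀ M : Subgroup G, M.Normal → u ∈ M → M = ⊤

variable {u : G}

theorem Setup.cent_of_conj (S : Setup u) {g : G} (hg : IsConj u g) :
    Nat.card (Subgroup.centralizer ({g} : Set G)) = 4 := by
  obtain ⟨c, rfl⟩ := isConj_iff.1 hg
  rw [← S.cent]
  refine Nat.card_congr
    { toFun := fun x => ⟨c⁻¹ * x * c, ?_⟩
      invFun := fun x => ⟨c * x * c⁻¹, ?_⟩
      left_inv := fun x => Subtype.ext (by group)
      right_inv := fun x => Subtype.ext (by group) }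
  · have hx := Subgroup.mem_centralizer_singleton_iff.1 x.2
    rw [Subgroup.mem_centralizer_singleton_iff]
    calc c⁻¹ * (x : G) * c * u = c⁻¹ * ((x : G) * (c * u * c⁻¹)) * c := by group
      _ = c⁻¹ * (c * u * c⁻¹ * x) * c := by rw [hx]
      _ = u * (c⁻¹ * x * c) := by group
  · have hx := Subgroup.mem_centralizer_singleton_iff.1 x.2
    rw [Subgroup.mem_centralizer_singleton_iff]
    calc c * (x : G) * c⁻¹ * (c * u * c⁻¹) = c * ((x : G) * u) * c⁻¹ := by group
      _ = c * (u * x) * c⁻¹ := by rw [hx]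
      _ = c * u * c⁻¹ * (c * x * c⁻¹) := by group

theorem Setup.sq_mem (S : Setup u) (k : ℕ) : ∀ g : G, g ^ 2 ^ k ∈ S.N → g * g ∈ S.N := by
  induction k with
  | zero => intro g hg; rw [pow_zero, pow_one] at hg; exact mul_mem hg hg
  | succ k ih =>
    intro g hg
    rw [pow_succ', pow_mul, sq] at hg
    by_cases hgN : g ∈ S.N
    · exact mul_mem hgN hgN
    · exact S.four g hgN (ih _ hg)

/-- A two-element outside `N` is conjugate to `u`. -/
theorem Setup.conj_of_mem (S : Setup u) (P : Sylow 2 G) {g : G} (hg : g ∈ (P : Subgroup G)) (hgN : g ∉ S.N) :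
    IsConj u g := by
  obtain ⟨k, hk⟩ := P.2 ⟨g, hg⟩
  refine S.conj g hgN (S.sq_mem k g ?_)
  have : g ^ 2 ^ k = 1 := congrArg Subtype.val hk
  rw [this]; exact one_mem _

theorem Setup.sylow_data (S : Setup u) (P : Sylow 2 G) :
    Nat.card (P : Subgroup G) = 4 * 2 ^ (Nat.card S.N).factorization 2 ∧
      Nat.card ↥((P : Subgroup G) ⊓ S.N) = 2 ^ (Nat.card S.N).factorization 2 ∧
      ∃ s ∈ (P : Subgroup G), ∃ s' ∈ (P : Subgroup G), s ∉ S.N ∧ s' ∉ S.N ∧ s * s' ∉ S.N := by
  haveI := S.normal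
  haveI := Fact.mk Nat.prime_two
  have hP : Nat.card (P : Subgroup G) = 4 * 2 ^ (Nat.card S.N).factorization 2 := by
    rw [P.card_eq_multiplicity, S.card, Nat.factorization_mul (by norm_num) Nat.card_pos.ne',
      Finsupp.add_apply, pow_add]
    congr 1
    rw [show (60 : ℕ) = 2 ^ 2 * 15 from rfl, Nat.factorization_mul (by norm_num) (by norm_num),
      Finsupp.add_apply, Nat.prime_two.factorization_pow, Finsupp.single_eq_same,
      Nat.factorization_eq_zero_of_not_dvd (by norm_num : ¬ 2 ∣ 15)]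
    norm_num
  let Q := P.mapSurjective (f := QuotientGroup.mk' S.N) (QuotientGroup.mk'_surjective _)
  have hQ : Nat.card (Q : Subgroup (G ⧸ S.N)) = 4 := by
    have h60 : Nat.card (G ⧸ S.N) = 60 := by
      have := S.N.card_mul_index
      rw [S.card, Subgroup.index_eq_card, mul_comm 60] at this
      exact Nat.eq_of_mul_eq_mul_left Nat.card_pos this
    rw [Q.card_eq_multiplicity, h60, show (60 : ℕ) = 2 ^ 2 * 15 from rfl,
      Nat.factorization_mul (by norm_num) (by norm_num),
      Finsupp.add_apply, Nat.prime_two.factorization_pow, Finsupp.single_eq_same,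
      Nat.factorization_eq_zero_of_not_dvd (by norm_num : ¬ 2 ∣ 15)]
    norm_num
  let f := (QuotientGroup.mk' S.N).comp (P : Subgroup G).subtype
  have hrange : f.range = (Q : Subgroup (G ⧸ S.N)) := by
    rw [MonoidHom.range_comp, Subgroup.range_subtype, Sylow.coe_mapSurjective]
  have hker : f.ker = S.N.subgroupOf (P : Subgroup G) := by
    ext x; simp [f, Subgroup.mem_subgroupOf]
  have hT : Nat.card ↥((P : Subgroup G) ⊓ S.N) = 2 ^ (Nat.card S.N).factorization 2 := by
    have h := f.ker.card_mul_index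
    rw [Subgroup.index_ker, hrange, hQ, hP, hker, mul_comm 4] at h
    have e : Nat.card (S.N.subgroupOf (P : Subgroup G)) = Nat.card ↥((P : Subgroup G) ⊓ S.N) :=
      Nat.card_congr
        { toFun := fun x => ⟨x.1.1, x.1.2, x.2⟩
          invFun := fun x => ⟨⟨x.1, x.2.1⟩, x.2.2⟩
          left_inv := fun x => rfl
          right_inv := fun x => rfl }
    rw [← e]
    exact Nat.eq_of_mul_eq_mul_right (by norm_num) h
  refine ⟨hP, hT, ?_⟩
  haveI : Nontrivial (Q : Subgroup (G ⧸ S.N)) := Finite.one_lt_card_iff_nontrivial.1 (by omega)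
  obtain ⟨⟨a, ha⟩, ha1⟩ := exists_ne (1 : (Q : Subgroup (G ⧸ S.N)))
  obtain ⟨b, hbQ, hb1, hba⟩ : ∃ b ∈ (Q : Subgroup (G ⧸ S.N)), b ≠ 1 ∧ b ≠ a⁻¹ := by
    by_contra hall
    push Not at hall
    have hle : Nat.card (Q : Subgroup (G ⧸ S.N)) ≤ 2 := by
      rw [← SetLike.coe_sort_coe, Nat.card_coe_set_eq]
      refine (Set.ncard_le_ncard (t := {1, a⁻¹}) fun b hb => ?_).trans (Set.ncard_insert_le _ _ |>.trans (by simp))
      rcases eq_or_ne b 1 with e | e
      · exact Or.inl e
      · exact Or.inr (hall b hb e)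
    omega
  rw [← hrange] at ha hbQ
  obtain ⟨⟨s, hs⟩, rfl⟩ := ha
  obtain ⟨⟨s', hs'⟩, rfl⟩ := hbQ
  have hmem : ∀ x, x ∈ S.N ↔ (QuotientGroup.mk' S.N) x = 1 := fun x => (QuotientGroup.eq_one_iff x).symm
  refine ⟨s, hs, s', hs', fun h => ha1 (Subtype.ext ((hmem s).1 h)), fun h => hb1 ((hmem s').1 h),
    fun h => hba ?_⟩
  have := (hmem _).1 h
  rw [map_mul] at this
  exact (inv_eq_of_mul_eq_one_right this).symm

theorem Setup.card_quotient_N (S : Setup u) [S.N.Normal] : Nat.card (G ⧸ S.N) = 60 := by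
  have := S.N.card_mul_index
  rw [S.card, Subgroup.index_eq_card, mul_comm 60] at this
  exact Nat.eq_of_mul_eq_mul_left Nat.card_pos this

/-- The odd core lies in `N`. -/
theorem Setup.oddCore_le (S : Setup u) : oddCore G ≤ S.N := by
  haveI := S.normal
  haveI := isSimpleGroup_of_perfect_sixty S.card_quotient_N (perfect_quotient S.perfect _)
  have hn : ((oddCore G).map (QuotientGroup.mk' S.N)).Normal :=
    Subgroup.Normal.map inferInstance _ (QuotientGroup.mk'_surjective _)
  rcases hn.eq_bot_or_eq_top with h | h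
  · intro x hx
    exact (QuotientGroup.eq_one_iff x).1 (Subgroup.mem_bot.1 (h ▸ Subgroup.mem_map_of_mem _ hx))
  · exfalso
    have hd := Subgroup.card_map_dvd (oddCore G) (QuotientGroup.mk' S.N)
    rw [h, Subgroup.card_top, S.card_quotient_N] at hd
    obtain ⟨j, hj⟩ := Base.odd_card_oddCore G
    omega

/-- The case of an involution. -/
theorem Setup.involution (S : Setup u) (h2 : u * u = 1) :
    Nat.card G = 60 ∧ oddCore G = ⊥ ∧ orderOf u = 2 := by
  classical
  haveI := S.normal
  haveI := Fact.mk Nat.prime_two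
  have hu1 : u ≠ 1 := fun h => by subst h; exact S.notMem (one_mem _)
  have hord : orderOf u = 2 := orderOf_eq_prime (by rw [sq, h2]) hu1
  have hsq : ∀ g, IsConj u g → g * g = 1 := fun g hg => by
    obtain ⟨c, rfl⟩ := isConj_iff.1 hg
    calc c * u * c⁻¹ * (c * u * c⁻¹) = c * (u * u) * c⁻¹ := by group
      _ = 1 := by rw [h2]; group
  have hinv : ∀ n ∈ S.N, u * n * u⁻¹ = n⁻¹ := by
    intro n hn
    have hun : u * n ∉ S.N := fun h => S.notMem ((mul_mem_cancel_right hn).1 h)
    have hsqm : u * n * (u * n) ∈ S.N := by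
      rw [show u * n * (u * n) = (u * u) * ((u⁻¹ * n * u) * n) by group]
      exact mul_mem S.sqMem (mul_mem (by simpa using S.normal.conj_mem n hn u⁻¹) hn)
    have h := hsq _ (S.conj _ hun hsqm)
    rw [eq_inv_iff_mul_eq_one, inv_eq_of_mul_eq_one_right h2]
    exact (by rw [← h]; group)
  let W : Subgroup G :=
    { carrier := {g | (∀ n ∈ S.N, g * n * g⁻¹ = n) ∨ ∀ n ∈ S.N, g * n * g⁻¹ = n⁻¹}
      one_mem' := Or.inl fun n _ => by simp
      mul_mem' := fun {a b} ha hb => by
        have key : ∀ n, a * b * n * (a * b)⁻¹ = a * (b * n * b⁻¹) * a⁻¹ := fun n => by group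
        rcases ha with ha | ha <;> rcases hb with hb | hb
        · exact Or.inl fun n hn => by rw [key, hb n hn, ha n hn]
        · exact Or.inr fun n hn => by rw [key, hb n hn, ha _ (inv_mem hn)]
        · exact Or.inr fun n hn => by rw [key, hb n hn, ha n hn]
        · exact Or.inl fun n hn => by rw [key, hb n hn, ha _ (inv_mem hn), inv_inv]
      inv_mem' := fun {a} ha => by
        rcases ha with ha | ha
        · refine Or.inl fun n hn => ?_
          calc a⁻¹ * n * a⁻¹⁻¹ = a⁻¹ * (a * n * a⁻¹) * a := by rw [ha n hn, inv_inv]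
            _ = n := by group
        · refine Or.inr fun n hn => ?_
          calc a⁻¹ * n * a⁻¹⁻¹ = a⁻¹ * (a * n⁻¹ * a⁻¹) * a := by rw [ha _ (inv_mem hn), inv_inv, inv_inv]
            _ = n⁻¹ := by group }
  haveI : W.Normal := ⟨fun a ha g => by
    have key : ∀ n, g * a * g⁻¹ * n * (g * a * g⁻¹)⁻¹ = g * (a * (g⁻¹ * n * g) * a⁻¹) * g⁻¹ :=
      fun n => by group
    have hm : ∀ n ∈ S.N, g⁻¹ * n * g ∈ S.N := fun n hn => by simpa using S.normal.conj_mem n hn g⁻¹
    rcases ha with ha | ha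
    · exact Or.inl fun n hn => by rw [key, ha _ (hm n hn)]; group
    · exact Or.inr fun n hn => by rw [key, ha _ (hm n hn)]; group⟩
  have hW : W = ⊤ := S.closure W inferInstance (Or.inr hinv)
  have hcomm : commutator G ≤ Subgroup.centralizer (S.N : Set G) := by
    refine Subgroup.commutator_le.2 fun a _ b _ => Subgroup.mem_centralizer_iff.2 fun n hn => ?_
    refine (mul_inv_eq_iff_eq_mul.1 ?_).symm
    rw [commutatorElement_def]
    have ha : a ∈ W := hW ▸ Subgroup.mem_top a
    have hb : b ∈ W := hW ▸ Subgroup.mem_top b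
    have hai : a⁻¹ ∈ W := inv_mem ha
    have hbi : b⁻¹ ∈ W := inv_mem hb
    have key : a * b * a⁻¹ * b⁻¹ * n * (a * b * a⁻¹ * b⁻¹)⁻¹ =
        a * (b * (a⁻¹ * (b⁻¹ * n * b⁻¹⁻¹) * a⁻¹⁻¹) * b⁻¹) * a⁻¹ := by group
    rw [key]
    have rel : ∀ {x : G}, x ∈ W → ∀ m ∈ S.N, x⁻¹ * m * x⁻¹⁻¹ = x * m * x⁻¹ := by
      intro x hx m hm
      rcases hx with hx | hx
      · rw [hx m hm]
        calc x⁻¹ * m * x⁻¹⁻¹ = x⁻¹ * (x * m * x⁻¹) * x := by rw [hx m hm, inv_inv]
          _ = m := by group
      · rw [hx m hm]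
        calc x⁻¹ * m * x⁻¹⁻¹ = x⁻¹ * (x * m⁻¹ * x⁻¹) * x := by rw [hx _ (inv_mem hm), inv_inv, inv_inv]
          _ = m⁻¹ := by group
    have hbn : b * n * b⁻¹ = n ∨ b * n * b⁻¹ = n⁻¹ := hb.imp (fun h => h n hn) fun h => h n hn
    rcases ha with ha | ha <;> rcases hb with hb | hb
    · rw [rel (Or.inl hb) n hn, hb n hn, rel (Or.inl ha) n hn, ha n hn, hb n hn, ha n hn]
    · rw [rel (Or.inr hb) n hn, hb n hn, rel (Or.inl ha) _ (inv_mem hn), ha _ (inv_mem hn),
        hb _ (inv_mem hn), inv_inv, ha n hn]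
    · rw [rel (Or.inl hb) n hn, hb n hn, rel (Or.inr ha) n hn, ha n hn, hb _ (inv_mem hn),
        ha _ (inv_mem hn), inv_inv]
    · rw [rel (Or.inr hb) n hn, hb n hn, rel (Or.inr ha) _ (inv_mem hn), ha _ (inv_mem hn), inv_inv,
        hb n hn, ha _ (inv_mem hn), inv_inv]
  have hcentral : ∀ g : G, ∀ n ∈ S.N, n * g = g * n := fun g n hn =>
    Subgroup.mem_centralizer_iff.1 (hcomm (S.perfect ▸ Subgroup.mem_top g)) n hn
  have hexp : ∀ n ∈ S.N, n * n = 1 := fun n hn => by
    have h := hinv n hn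
    rw [← hcentral u n hn, mul_inv_cancel_right] at h
    exact eq_inv_iff_mul_eq_one.1 h
  have hle2 : Nat.card S.N ≤ 2 := by
    have h4 := S.cent
    have : Nat.card (S.N × Bool) ≤ Nat.card (Subgroup.centralizer ({u} : Set G)) := by
      refine Nat.card_le_card_of_injective (fun p => ⟨(if p.2 then u else 1) * p.1, ?_⟩) ?_
      · rw [Subgroup.mem_centralizer_singleton_iff]
        split_ifs
        · rw [mul_assoc, hcentral u _ p.1.2]
        · rw [one_mul, hcentral u _ p.1.2]
      · rintro ⟨n, b⟩ ⟨n', b'⟩ h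
        have h' : (if b then u else 1) * (n : G) = (if b' then u else 1) * (n' : G) :=
          congrArg Subtype.val h
        cases b <;> cases b' <;> simp at h'
        · exact Prod.ext h' rfl
        · exact absurd ((mul_mem_cancel_right n'.2).1 (h' ▸ n.2)) S.notMem
        · exact absurd ((mul_mem_cancel_right n.2).1 (h'.symm ▸ n'.2)) S.notMem
        · exact Prod.ext h' rfl
    rw [Nat.card_prod, Nat.card_eq_fintype_card (α := Bool), Fintype.card_bool, h4] at this
    omega
  have hN1 : Nat.card S.N = 1 := by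
    have hpos : 0 < Nat.card S.N := Nat.card_pos
    by_contra hne
    have hN2 : Nat.card S.N = 2 := by omega
    let P : Sylow 2 G := Classical.arbitrary _
    obtain ⟨hP, -, s, hs, -, -, hsN, -, -⟩ := S.sylow_data P
    have hx : ∀ x : (P : Subgroup G), x * x = 1 := fun x => Subtype.ext (by
      by_cases hxN : (x : G) ∈ S.N
      · exact hexp _ hxN
      · exact hsq _ (S.conj_of_mem P x.2 hxN))
    have hcle : (P : Subgroup G) ≤ Subgroup.centralizer ({s} : Set G) := fun x hxP => by
      rw [Subgroup.mem_centralizer_singleton_iff]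
      have e1 := hx ⟨x, hxP⟩
      have e2 := hx ⟨s, hs⟩
      have e3 := hx (⟨x, hxP⟩ * ⟨s, hs⟩)
      have : (⟨x, hxP⟩ : (P : Subgroup G)) * ⟨s, hs⟩ = ⟨s, hs⟩ * ⟨x, hxP⟩ := by
        rw [← mul_eq_one_iff_inv_eq.1 e3, mul_inv_rev, mul_eq_one_iff_inv_eq.1 e1,
          mul_eq_one_iff_inv_eq.1 e2]
      exact congrArg Subtype.val this
    have := Subgroup.card_le_of_le hcle
    rw [S.cent_of_conj (S.conj_of_mem P hs hsN), hP, hN2, Nat.prime_two.factorization_self] at this
    omega
  refine ⟨by rw [S.card, hN1], ?_, hord⟩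
  rw [eq_bot_iff]
  exact S.oddCore_le.trans (Subgroup.eq_bot_of_card_eq _ hN1).le

/-- The case of an element of order four. -/
theorem Setup.orderFour (S : Setup u) (h2 : u * u ≠ 1) :
    Nat.card G = 120 * Nat.card (oddCore G) ∧ IsMulCommutative (oddCore G) ∧ orderOf u = 4 := by
  classical
  haveI := S.normal
  haveI := Fact.mk Nat.prime_two
  have hcyc : ∀ g, IsConj u g → g * g ≠ 1 ∧ orderOf g = 4 ∧
      ∀ x, x * g = g * x → x = 1 ∨ x = g ∨ x = g * g ∨ x = g * g * g := by
    intro g hg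
    have hg2 : g * g ≠ 1 := by
      obtain ⟨c, rfl⟩ := isConj_iff.1 hg
      intro h
      apply h2
      calc u * u = c⁻¹ * (c * u * c⁻¹ * (c * u * c⁻¹)) * c := by group
        _ = 1 := by rw [h]; group
    have hC := S.cent_of_conj hg
    have hd : orderOf g ∣ 4 := hC ▸
      Subgroup.orderOf_dvd_natCard _ (Subgroup.mem_centralizer_singleton_iff.2 rfl)
    have hne : orderOf g ∣ 2 → False := fun h => hg2 (by rw [← sq]; exact orderOf_dvd_iff_pow_eq_one.1 h)
    have ho : orderOf g = 4 := by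
      obtain ⟨k, hk, e⟩ := (Nat.dvd_prime_pow Nat.prime_two (m := 2)).1 hd
      interval_cases k
      · exact (hne (by rw [e]; norm_num)).elim
      · exact (hne (by rw [e]; norm_num)).elim
      · exact e
    refine ⟨hg2, ho, fun x hx => ?_⟩
    have heq : Subgroup.zpowers g = Subgroup.centralizer ({g} : Set G) :=
      Subgroup.eq_of_le_of_card_ge (by rw [Subgroup.zpowers_le, Subgroup.mem_centralizer_singleton_iff])
        (by rw [hC, Nat.card_zpowers, ho])
    have hxz : x ∈ Subgroup.zpowers g := heq ▸ Subgroup.mem_centralizer_singleton_iff.2 hx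
    rw [(isOfFinOrder_of_finite g).mem_zpowers_iff_mem_range_orderOf, Finset.mem_image] at hxz
    obtain ⟨k, hk, rfl⟩ := hxz
    rw [ho, Finset.mem_range] at hk
    interval_cases k
    · exact Or.inl (pow_zero g)
    · exact Or.inr (Or.inl (pow_one g))
    · exact Or.inr (Or.inr (Or.inl (sq g)))
    · exact Or.inr (Or.inr (Or.inr (by rw [pow_succ, sq])))
  obtain ⟨-, hordu, -⟩ := hcyc u (IsConj.refl u)
  let P : Sylow 2 G := Classical.arbitrary _
  obtain ⟨hP, hTcard, s, hs, s', hs', hsN, hs'N, hssN⟩ := S.sylow_data P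
  have hout : ∀ x ∈ (P : Subgroup G), x ∉ S.N → IsConj u x := fun x hx hxN => S.conj_of_mem P hx hxN
  have hsqN : ∀ x ∈ (P : Subgroup G), x * x ∈ S.N := fun x hx => by
    obtain ⟨k, hk⟩ := P.2 ⟨x, hx⟩
    refine S.sq_mem k x ?_
    rw [show x ^ 2 ^ k = 1 from congrArg Subtype.val hk]; exact one_mem _
  have hTne : 1 < Nat.card ↥((P : Subgroup G) ⊓ S.N) := by
    haveI : Nontrivial ↥((P : Subgroup G) ⊓ S.N) := ⟨⟨s * s, mul_mem hs hs, hsqN s hs⟩, 1,
      fun h => (hcyc s (hout s hs hsN)).1 (congrArg Subtype.val h)⟩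
    exact Finite.one_lt_card
  -- a central involution
  haveI : Nontrivial (P : Subgroup G) := Finite.one_lt_card_iff_nontrivial.1 (by omega)
  obtain ⟨⟨⟨z, hzP⟩, hzc⟩, hz1⟩ :=
    haveI := P.2.center_nontrivial
    exists_ne (1 : Subgroup.center (P : Subgroup G))
  have hzcomm : ∀ x ∈ (P : Subgroup G), z * x = x * z := fun x hx =>
    (congrArg Subtype.val (Subgroup.mem_center_iff.1 hzc ⟨x, hx⟩)).symm
  have hzne : z ≠ 1 := fun h => hz1 (Subtype.ext (Subtype.ext h))
  have hsquare : ∀ x ∈ (P : Subgroup G), x ∉ S.N → x * x = z := by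
    intro x hx hxN
    obtain ⟨hx2, hxo, hxC⟩ := hcyc x (hout x hx hxN)
    rcases hxC z (hzcomm x hx) with e | e | e | e
    · exact absurd e hzne
    · exfalso
      have hle : (P : Subgroup G) ≤ Subgroup.centralizer ({x} : Set G) := fun y hy => by
        rw [Subgroup.mem_centralizer_singleton_iff, ← e]; exact (hzcomm y hy).symm
      have := Subgroup.card_le_of_le hle
      rw [S.cent_of_conj (hout x hx hxN), hP, ← hTcard] at this
      omega
    · exact e.symm
    · exfalso
      have hle : (P : Subgroup G) ≤ Subgroup.centralizer ({x} : Set G) := fun y hy => by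
        have hx4 : x ^ 4 = 1 := hxo ▸ pow_orderOf_eq_one x
        have hxinv : x = z⁻¹ := by
          rw [eq_inv_iff_mul_eq_one, e, ← hx4]; simp [pow_succ, mul_assoc]
        rw [Subgroup.mem_centralizer_singleton_iff, hxinv]
        exact (Commute.inv_left (hzcomm y hy : Commute z y)).symm.eq
      have := Subgroup.card_le_of_le hle
      rw [S.cent_of_conj (hout x hx hxN), hP, ← hTcard] at this
      omega
  have hinvT : ∀ x ∈ (P : Subgroup G), x ∉ S.N → ∀ t ∈ (P : Subgroup G) ⊓ S.N, x⁻¹ * t * x = t⁻¹ := by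
    intro x hx hxN t ht
    obtain ⟨htP, htN⟩ := Subgroup.mem_inf.1 ht
    have hxt : x * t ∉ S.N := fun h => hxN ((mul_mem_cancel_right htN).1 h)
    have h1 := hsquare (x * t) (mul_mem hx htP) hxt
    rw [← hsquare x hx hxN] at h1
    rw [eq_inv_iff_mul_eq_one]
    calc x⁻¹ * t * x * t = (x * x)⁻¹ * (x * t * (x * t)) := by group
      _ = 1 := by rw [h1]; group
  have hT2 : ∀ t ∈ (P : Subgroup G) ⊓ S.N, t = 1 ∨ t = z := by
    intro t ht
    have e1 := hinvT s hs hsN t ht
    have e2 := hinvT s' hs' hs'N t⁻¹ (inv_mem ht)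
    have e3 := hinvT (s * s') (mul_mem hs hs') hssN t ht
    have htt : t = t⁻¹ := by
      rw [← e3, show (s * s')⁻¹ * t * (s * s') = s'⁻¹ * (s⁻¹ * t * s) * s' by group, e1, e2, inv_inv]
    obtain ⟨-, -, hC⟩ := hcyc s (hout s hs hsN)
    have htc : t * s = s * t := by
      calc t * s = s * (s⁻¹ * t * s) := by group
        _ = s * t := by rw [e1, ← htt]
    rcases hC t htc with e | e | e | e
    · exact Or.inl e
    · exact absurd (e ▸ ht.2) hsN
    · exact Or.inr (e.trans (hsquare s hs hsN))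
    · refine absurd ?_ hsN
      have h3 : s * s * s ∈ S.N := e ▸ ht.2
      exact (mul_mem_cancel_left (hsqN s hs)).1 h3
  have hT : Nat.card ↥((P : Subgroup G) ⊓ S.N) = 2 := by
    refine le_antisymm ?_ hTne
    rw [← SetLike.coe_sort_coe, Nat.card_coe_set_eq]
    exact (Set.ncard_le_ncard (t := {1, z}) fun t ht => hT2 t ht).trans
      (Set.ncard_insert_le _ _ |>.trans (by simp))
  have hv : (Nat.card S.N).factorization 2 = 1 := by
    rw [hT] at hTcard
    exact Nat.pow_right_injective le_rfl (by simpa using hTcard.symm)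
  -- the normal two-complement of `N`
  let Q : Sylow 2 S.N := Classical.arbitrary _
  have hQ : Nat.card (Q : Subgroup S.N) = 2 := by rw [Q.card_eq_multiplicity, hv, pow_one]
  haveI : IsCyclic (Q : Subgroup S.N) := isCyclic_of_prime_card hQ
  have h2N : 2 ∣ Nat.card S.N := hQ ▸ Subgroup.card_subgroup_dvd_card _
  have hle := IsCyclic.normalizer_le_centralizer (P := Q) ((Nat.minFac_eq_two_iff _).2 h2N) inferInstance
  obtain ⟨K, hK⟩ : ∃ K, K = (MonoidHom.transferSylow Q hle).ker := ⟨_, rfl⟩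
  have hKc : Subgroup.IsComplement' K (Q : Subgroup S.N) :=
    hK ▸ MonoidHom.ker_transferSylow_isComplement' Q hle
  haveI hKn : K.Normal := hK ▸ inferInstance
  have hcardK : Nat.card K * 2 = Nat.card S.N := hQ ▸ hKc.card_mul
  have hKodd : Odd (Nat.card K) := by
    have hnd : ¬ 2 ^ 2 ∣ Nat.card S.N := fun h =>
      absurd ((Nat.prime_two.pow_dvd_iff_le_factorization Nat.card_pos.ne').1 h) (by omega)
    rw [Nat.odd_iff]
    by_contra h
    exact hnd ⟨Nat.card K / 2, by omega⟩
  have hKmem : ∀ (x : S.N), Odd (orderOf x) → x ∈ K := by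
    intro x hx
    have hi : K.index = 2 := by
      have := K.card_mul_index
      rw [← hcardK] at this
      exact Nat.eq_of_mul_eq_mul_left Nat.card_pos this
    have hd : orderOf (x : S.N ⧸ K) ∣ 2 := by
      rw [← hi, Subgroup.index_eq_card]; exact orderOf_dvd_natCard _
    have hd2 : orderOf (x : S.N ⧸ K) ∣ orderOf x := orderOf_map_dvd (QuotientGroup.mk' K) x
    rw [← QuotientGroup.eq_one_iff, ← orderOf_eq_one_iff]
    exact Nat.eq_one_of_dvd_coprimes (Nat.coprime_two_left.2 hx) hd hd2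
  let K' : Subgroup G := K.map S.N.subtype
  have hK'odd : Odd (Nat.card K') := by
    rwa [Subgroup.card_map_of_injective S.N.subtype_injective]
  haveI : K'.Normal := ⟨fun x hx g => by
    obtain ⟨x, hxK, rfl⟩ := hx
    refine ⟨⟨g * x * g⁻¹, S.normal.conj_mem x x.2 g⟩, hKmem _ ?_, rfl⟩
    rw [← Subgroup.orderOf_coe]
    show Odd (orderOf (g * (x : G) * g⁻¹))
    rw [← MulAut.conj_apply, MulEquiv.orderOf_eq, Subgroup.orderOf_coe]
    exact hKodd.of_dvd_nat (Subgroup.orderOf_dvd_natCard K hxK)⟩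
  have hOK : oddCore G = K' := by
    refine le_antisymm (fun x hx => ?_) (Base.le_oddCore hK'odd)
    refine ⟨⟨x, S.oddCore_le hx⟩, hKmem _ ?_, rfl⟩
    rw [← Subgroup.orderOf_coe]
    exact (Base.odd_card_oddCore G).of_dvd_nat (Subgroup.orderOf_dvd_natCard _ hx)
  have hcardO : Nat.card G = 120 * Nat.card (oddCore G) := by
    rw [S.card, hOK, Subgroup.card_map_of_injective S.N.subtype_injective, ← hcardK]
    ring
  -- the fixed-point-free action of the central involution
  haveI hOn : (oddCore G).Normal := inferInstance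
  have hfpf : ∀ x ∈ (P : Subgroup G), x ∉ S.N → ∀ d ∈ oddCore G, x * d = d * x → d = 1 := by
    intro x hx hxN d hd hxd
    obtain ⟨-, -, hC⟩ := hcyc x (hout x hx hxN)
    have h4 : d ^ 4 = 1 := by
      have hC4 := S.cent_of_conj (hout x hx hxN)
      have hdm : d ∈ Subgroup.centralizer ({x} : Set G) :=
        Subgroup.mem_centralizer_singleton_iff.2 hxd.symm
      exact orderOf_dvd_iff_pow_eq_one.1 (hC4 ▸ Subgroup.orderOf_dvd_natCard _ hdm)
    rw [← orderOf_eq_one_iff]
    have hodd := (Base.odd_card_oddCore G).of_dvd_nat (Subgroup.orderOf_dvd_natCard _ hd)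
    exact Nat.eq_one_of_dvd_coprimes (Nat.Coprime.pow_left 2 (Nat.coprime_two_left.2 hodd))
      (orderOf_dvd_of_pow_eq_one h4) dvd_rfl
  have hinvD : ∀ x ∈ (P : Subgroup G), x ∉ S.N → ∀ d ∈ oddCore G, z * d = d * z → x * d * x⁻¹ = d⁻¹ := by
    intro x hx hxN d hd hdz
    let D : Subgroup G := oddCore G ⊓ Subgroup.centralizer ({z} : Set G)
    have hmem : ∀ y ∈ D, x * y * x⁻¹ ∈ D := fun y hy => by
      refine ⟨hOn.conj_mem y hy.1 x, Subgroup.mem_centralizer_singleton_iff.2 ?_⟩
      have hy2 := Subgroup.mem_centralizer_singleton_iff.1 hy.2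
      calc x * y * x⁻¹ * z = x * (y * z) * x⁻¹ := by
            rw [mul_assoc (x * y) x⁻¹ z, ← (Commute.inv_right (hzcomm x hx : Commute z x)).eq]; group
        _ = x * (z * y) * x⁻¹ := by rw [hy2]
        _ = z * (x * y * x⁻¹) := by rw [← mul_assoc x z y, ← hzcomm x hx]; group
    let φ : D →* D :=
      { toFun := fun y => ⟨x * y * x⁻¹, hmem y y.2⟩
        map_one' := Subtype.ext (by simp)
        map_mul' := fun a b => Subtype.ext (by simp [mul_assoc]) }
    have hfp : MonoidHom.FixedPointFree φ := fun y hy => Subtype.ext (hfpf x hx hxN y y.2.1 (by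
      have := congrArg Subtype.val hy
      exact mul_inv_eq_iff_eq_mul.1 this))
    have hinvo : Function.Involutive φ := fun y => Subtype.ext (by
      show x * (x * (y : G) * x⁻¹) * x⁻¹ = y
      calc x * (x * (y : G) * x⁻¹) * x⁻¹ = (x * x) * y * (x * x)⁻¹ := by group
        _ = y := by rw [hsquare x hx hxN, ← Subgroup.mem_centralizer_singleton_iff.1 y.2.2,
            mul_inv_cancel_right])
    exact congrArg Subtype.val (congrFun (hfp.coe_eq_inv_of_involutive hinvo)
      (⟨d, hd, Subgroup.mem_centralizer_singleton_iff.2 hdz.symm⟩ : D))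
  have hzfree : ∀ d ∈ oddCore G, z * d = d * z → d = 1 := by
    intro d hd hdz
    have hdz' : z * d⁻¹ = d⁻¹ * z := (Commute.inv_right (hdz : Commute z d)).eq
    have e1 := hinvD s hs hsN d⁻¹ (inv_mem hd) hdz'
    have e2 := hinvD s' hs' hs'N d hd hdz
    have e3 := hinvD (s * s') (mul_mem hs hs') hssN d hd hdz
    have hdd : d = d⁻¹ := by
      rw [← e3, show s * s' * d * (s * s')⁻¹ = s * (s' * d * s'⁻¹) * s⁻¹ by group, e2, e1, inv_inv]
    rw [← orderOf_eq_one_iff]
    have h2 : orderOf d ∣ 2 := orderOf_dvd_of_pow_eq_one (by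
      rw [sq]; exact eq_inv_iff_mul_eq_one.1 hdd)
    exact Nat.eq_one_of_dvd_coprimes
      (Nat.coprime_two_left.2 ((Base.odd_card_oddCore G).of_dvd_nat (Subgroup.orderOf_dvd_natCard _ hd))) h2 dvd_rfl
  have hzz : z * z = 1 := by
    obtain ⟨-, hso, -⟩ := hcyc s (hout s hs hsN)
    rw [← hsquare s hs hsN]
    have := pow_orderOf_eq_one s
    rw [hso] at this
    simpa [pow_succ, mul_assoc] using this
  let φ : oddCore G →* oddCore G :=
    { toFun := fun y => ⟨z * y * z⁻¹, hOn.conj_mem y y.2 z⟩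
      map_one' := Subtype.ext (by simp)
      map_mul' := fun a b => Subtype.ext (by simp [mul_assoc]) }
  have hfp : MonoidHom.FixedPointFree φ := fun y hy => Subtype.ext (hzfree y y.2 (by
    have := congrArg Subtype.val hy
    exact mul_inv_eq_iff_eq_mul.1 this))
  have hinvo : Function.Involutive φ := fun y => Subtype.ext (by
    show z * (z * (y : G) * z⁻¹) * z⁻¹ = y
    calc z * (z * (y : G) * z⁻¹) * z⁻¹ = (z * z) * y * (z * z)⁻¹ := by group
      _ = y := by rw [hzz]; group)
  exact ⟨hcardO, ⟨⟨fun a b => hfp.commute_all_of_involutive hinvo a b⟩⟩, hordu⟩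

/-- The theorem in terms of the setup. -/
theorem Setup.main (S : Setup u) :
    IsMulCommutative (oddCore G) ∧
      ((Nonempty (G ⧸ oddCore G ≃* Matrix.ProjectiveSpecialLinearGroup (Fin 2) (ZMod 5)) ∧ orderOf u = 2) ∨
       (Nonempty (G ⧸ oddCore G ≃* Matrix.SpecialLinearGroup (Fin 2) (ZMod 5)) ∧ orderOf u = 4)) := by
  haveI : Fact (Nat.Prime 5) := ⟨by norm_num⟩
  by_cases h2 : u * u = 1
  · obtain ⟨h60, hO, hord⟩ := S.involution h2
    refine ⟨by rw [hO]; infer_instance, Or.inl ⟨?_, hord⟩⟩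
    have hq : Nat.card (G ⧸ oddCore G) = 60 := by
      rw [← Subgroup.index_eq_card, hO, Subgroup.index_bot, h60]
    haveI := isSimpleGroup_of_perfect_sixty hq (perfect_quotient S.perfect _)
    haveI := CfsgLib.Classical.isSimpleGroup_PSL_fin (F := ZMod 5) 2 le_rfl fun _ => by simp
    obtain ⟨e1⟩ := CfsgLib.Small.equiv_alternating_five hq
    obtain ⟨e2⟩ := CfsgLib.Small.equiv_alternating_five
      (G := Matrix.ProjectiveSpecialLinearGroup (Fin 2) (ZMod 5))
      (by rw [CfsgLib.Classical.card_PSL_two, Nat.card_zmod]; rfl)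
    exact ⟨e1.trans e2.symm⟩
  · obtain ⟨hcard, hab, hord⟩ := S.orderFour h2
    refine ⟨hab, Or.inr ⟨?_, hord⟩⟩
    haveI := S.normal
    haveI := isSimpleGroup_of_perfect_sixty S.card_quotient_N (perfect_quotient S.perfect _)
    obtain ⟨e⟩ := CfsgLib.Small.equiv_alternating_five (G := G ⧸ S.N) S.card_quotient_N
    have hq : Nat.card (G ⧸ oddCore G) = 120 := by
      have := (oddCore G).card_mul_index
      rw [hcard, Subgroup.index_eq_card, mul_comm 120] at this
      exact Nat.eq_of_mul_eq_mul_left Nat.card_pos this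
    let f : G ⧸ oddCore G →* G ⧸ S.N :=
      QuotientGroup.lift (oddCore G) (QuotientGroup.mk' S.N) fun x hx => by
        simpa using S.oddCore_le hx
    have hf : Function.Surjective f := fun y => by
      obtain ⟨x, rfl⟩ := QuotientGroup.mk'_surjective S.N y
      exact ⟨x, rfl⟩
    exact Perm.Zass.mulEquiv_SL_five (perfect_quotient S.perfect _) hq (e.toMonoidHom.comp f)
      (e.surjective.comp hf)

/-- The four-value theorem. -/
theorem fourValue [Fintype G] [Fintype (IrrCharacter G)] {u : G} (h : Hyp u) :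
    IsMulCommutative (oddCore G) ∧
      ((Nonempty (G ⧸ oddCore G ≃* Matrix.ProjectiveSpecialLinearGroup (Fin 2) (ZMod 5)) ∧ orderOf u = 2) ∨
       (Nonempty (G ⧸ oddCore G ≃* Matrix.SpecialLinearGroup (Fin 2) (ZMod 5)) ∧ orderOf u = 4)) := by
  obtain ⟨ψ, h1, hu, hcard, hsq, hno, hconj, hC⟩ := exists_setup h
  have hmem : ∀ g, g ∈ CharApps.charKer ψ ↔ (ψ : G → ℂ) g = 3 := fun g => by
    rw [CharApps.mem_charKer, h1]
  haveI := CharApps.charKer_normal ψ
  refine Setup.main (u := u)
    ⟨CharApps.charKer ψ, inferInstance, hcard, ?_, ?_, fun g hg hg2 => ?_, fun g _ hg4 => ?_,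
      hC, perfect h, fun M hM hMu => ?_⟩
  · rw [hmem, hu]; norm_num
  · obtain ⟨hfact, -⟩ := AltSquare.three_facts (perfect h) (Chars.isCharacter_of_irr ψ.2) h1 u
    rw [hmem, hfact, hu]; norm_num
  · rw [hmem] at hg hg2
    exact hconj g ((hsq g hg2).resolve_right hg)
  · rw [hmem] at hg4 ⊢
    exact ((hsq (g * g) hg4).resolve_left (hno g))
  · haveI := hM; exact normal_eq_top h hMu

end CfsgLib.CharApps.FourValue
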